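import Mathlib.LinearAlgebra.Matrix.Symmetric
import Mathlib.LinearAlgebra.Matrix.ToLin
import Mathlib.Algebra.Order.BigOperators.Group.Finset
import Mathlib.Algebra.Order.Field.Basic
import Mathlib.Tactic.Ring
import Mathlib.Tactic.Linarith
import Mathlib.Tactic.Positivity

/-!
# Connected symmetric matrices killing a positive vector
-/

open Finset Matrix

namespace Groth.Agent.NumTypeLib

section Conn

variable {ι R : Type*} [Fintype ι] [DecidableEq ι] [Zero R] {A : Matrix ι ι R}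

/-- A property closed under adjacency which holds somewhere holds everywhere. -/
theorem forall_of_adj (hconn : ∀ I : Finset ι, I.Nonempty → I ≠ univ → ∃ i ∈ I, ∃ j ∉ I, A i j ≠ 0)
    (P : ι → Prop) (i₀ : ι) (h₀ : P i₀) (h : ∀ i j, P i → A i j ≠ 0 → P j) (i : ι) : P i := by
  classical
  by_contra hi
  obtain ⟨a, ha, b, hb, hab⟩ := hconn (univ.filter P) ⟨i₀, mem_filter.2 ⟨mem_univ _, h₀⟩⟩
    fun e => hi (mem_filter.1 (e.symm ▸ mem_univ i : i ∈ univ.filter P)).2
  exact hb (mem_filter.2 ⟨mem_univ _, h a b (mem_filter.1 ha).2 hab⟩)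

end Conn

section Quad

variable {ι R : Type*} [Fintype ι] [CommRing R] {A : Matrix ι ι R} {m : ι → R}

theorem two_mul_quad (hsymm : A.IsSymm) (hAm : A *ᵥ m = 0) (y : ι → R) :
    2 * ∑ i, ∑ j, y i * m i * A i j * (y j * m j) = -∑ i, ∑ j, A i j * m i * m j * (y i - y j) ^ 2 := by
  have h1 : ∑ i, ∑ j, A i j * m i * m j * y i ^ 2 = 0 := by
    refine Finset.sum_eq_zero fun i _ => ?_
    have : ∑ j, A i j * m j = 0 := congrFun hAm i
    rw [show ∑ j, A i j * m i * m j * y i ^ 2 = m i * y i ^ 2 * ∑ j, A i j * m j by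
      rw [Finset.mul_sum]; exact Finset.sum_congr rfl fun j _ => by ring, this, mul_zero]
  have h2 : ∑ i, ∑ j, A i j * m i * m j * y j ^ 2 = 0 := by
    rw [Finset.sum_comm, ← h1]
    refine Finset.sum_congr rfl fun i _ => Finset.sum_congr rfl fun j _ => ?_
    rw [hsymm.apply i j]; ring
  calc 2 * ∑ i, ∑ j, y i * m i * A i j * (y j * m j)
      = (∑ i, ∑ j, 2 * (y i * m i * A i j * (y j * m j))) - ∑ i, ∑ j, A i j * m i * m j * y i ^ 2
        - ∑ i, ∑ j, A i j * m i * m j * y j ^ 2 := by rw [h1, h2]; simp only [Finset.mul_sum, sub_zero]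
    _ = _ := by
        simp only [← Finset.sum_sub_distrib, ← Finset.sum_neg_distrib]
        exact Finset.sum_congr rfl fun i _ => Finset.sum_congr rfl fun j _ => by ring

end Quad

section Order

variable {ι K : Type*} [Fintype ι] [DecidableEq ι] [Field K] [LinearOrder K] [IsStrictOrderedRing K]
  {A : Matrix ι ι K} {m : ι → K}
  (hsymm : A.IsSymm) (hA : ∀ i j, i ≠ j → 0 ≤ A i j) (hm : ∀ i, 0 < m i) (hAm : A *ᵥ m = 0)
include hsymm hA hm hAm

theorem quad_nonpos_and (hconn : ∀ I : Finset ι, I.Nonempty → I ≠ univ → ∃ i ∈ I, ∃ j ∉ I, A i j ≠ 0)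
    (x : ι → K) : x ⬝ᵥ (A *ᵥ x) ≤ 0 ∧ (x ⬝ᵥ (A *ᵥ x) = 0 ↔ ∃ q : K, x = q • m) := by
  let y : ι → K := fun i => x i / m i
  have hx : ∀ i, y i * m i = x i := fun i => div_mul_cancel₀ _ (hm i).ne'
  have h := two_mul_quad hsymm hAm y
  simp only [hx] at h
  have hq : x ⬝ᵥ (A *ᵥ x) = ∑ i, ∑ j, x i * A i j * x j := by
    simp only [dotProduct, mulVec, Finset.mul_sum, mul_assoc]
  rw [← hq] at h
  have hnn : ∀ i j, 0 ≤ A i j * m i * m j * (y i - y j) ^ 2 := fun i j => by
    rcases eq_or_ne i j with rfl | hij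
    · simp
    · have := hA i j hij; have := hm i; have := hm j; positivity
  have hs : 0 ≤ ∑ i, ∑ j, A i j * m i * m j * (y i - y j) ^ 2 :=
    Finset.sum_nonneg fun i _ => Finset.sum_nonneg fun j _ => hnn i j
  refine ⟨by linarith, fun h0 => ?_, ?_⟩
  · rw [h0, mul_zero, eq_comm, neg_eq_zero, Finset.sum_eq_zero_iff_of_nonneg
      fun i _ => Finset.sum_nonneg fun j _ => hnn i j] at h
    have hy : ∀ i j, A i j ≠ 0 → y i = y j := fun i j hij => by
      have := (Finset.sum_eq_zero_iff_of_nonneg fun j _ => hnn i j).1 (h i (mem_univ _)) j (mem_univ _)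
      simp only [mul_eq_zero, hij, (hm i).ne', (hm j).ne', pow_eq_zero_iff two_ne_zero, sub_eq_zero, false_or] at this
      exact this
    rcases isEmpty_or_nonempty ι with hι | ⟨⟨i₀⟩⟩
    · exact ⟨0, funext fun i => isEmptyElim i⟩
    refine ⟨y i₀, funext fun i => ?_⟩
    rw [Pi.smul_apply, smul_eq_mul, ← forall_of_adj hconn (fun i => y i = y i₀) i₀ rfl
      (fun i j hi hij => (hy i j hij).symm.trans hi) i, hx]
  · rintro ⟨q, rfl⟩
    rw [Matrix.mulVec_smul, hAm, smul_zero, dotProduct_zero]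

end Order

end Groth.Agent.NumTypeLib
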