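import Groth.Agent.NumTypeLib.Kernel

/-!
# Configurations of `(-2)`-indices dominated by an affine diagram
-/

open Finset

namespace Groth.Agent.NumTypeLib

open Models

variable {n : ℕ} {T : NumericalType n}

/-- `a i j / w i`. -/
def cc (T : NumericalType n) (i j : Fin n) : ℤ := T.a i j / T.w i

theorem w_mul_cc (i j : Fin n) : T.w i * cc T i j = T.a i j := Int.mul_ediv_cancel' (T.w_dvd i j)

theorem cc_comm (i j : Fin n) : T.w i * cc T i j = T.w j * cc T j i := by
  rw [w_mul_cc, w_mul_cc, a_comm]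

theorem cc_nonneg {i j : Fin n} (h : i ≠ j) : 0 ≤ cc T i j :=
  Int.ediv_nonneg (a_nonneg T h) (T.w_pos i).le

theorem cc_eq_zero_iff {i j : Fin n} : cc T i j = 0 ↔ T.a i j = 0 := by
  refine ⟨fun h => ?_, fun h => by rw [cc, h, Int.zero_ediv]⟩
  rw [← w_mul_cc, h, mul_zero]

theorem one_le_cc {i j : Fin n} (h : i ≠ j) (h' : T.a i j ≠ 0) : 1 ≤ cc T i j :=
  Int.add_one_le_iff.2 (lt_of_le_of_ne (cc_nonneg h) fun e => h' (cc_eq_zero_iff.1 e.symm))

theorem a_eq_zero_comm {i j : Fin n} : T.a i j = 0 ↔ T.a j i = 0 := by rw [a_comm]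

variable {k : ℕ} {v : Fin k ↪ Fin n} (hv : ∀ j, T.IsMinusTwo (v j))

include hv in
theorem sum_dual (δ : Fin k → ℤ) (j : Fin k) :
    ∑ i, δ i * T.a (v i) (v j) = T.w (v j) * (∑ i ∈ univ.erase j, cc T (v j) (v i) * δ i - 2 * δ j) := by
  rw [← Finset.add_sum_erase univ _ (mem_univ j), (hv j).2, mul_sub, Finset.mul_sum]
  have : ∀ i, T.w (v j) * (cc T (v j) (v i) * δ i) = δ i * T.a (v i) (v j) := fun i => by
    rw [← mul_assoc, w_mul_cc, a_comm, mul_comm]
  simp only [this]
  ring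

/-- A weighted configuration, in units of the weights `ω`, dominated by `T` at the indices `v`. -/
structure Dom (T : NumericalType n) (v : Fin k ↪ Fin n) (δ ω : Fin k → ℤ) (A : Fin k → Fin k → ℤ) : Prop where
  isMinusTwo : ∀ j, T.IsMinusTwo (v j)
  δ_pos : ∀ i, 0 < δ i
  ω_pos : ∀ i, 0 < ω i
  le : ∀ j i, j ≠ i → A j i ≤ ω j * cc T (v j) (v i)
  affine : ∀ j, 2 * ω j * δ j ≤ ∑ i ∈ univ.erase j, A j i * δ i

variable {δ ω : Fin k → ℤ} {A : Fin k → Fin k → ℤ} (D : Dom T v δ ω A)
include D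

theorem Dom.le_sum (j : Fin k) : 2 * δ j ≤ ∑ i ∈ univ.erase j, cc T (v j) (v i) * δ i := by
  refine le_of_mul_le_mul_left ?_ (D.ω_pos j)
  rw [Finset.mul_sum, ← mul_assoc, mul_comm (ω j) 2]
  refine (D.affine j).trans (Finset.sum_le_sum fun i hi => ?_)
  rw [← mul_assoc]
  exact mul_le_mul_of_nonneg_right (D.le j i (ne_of_mem_erase hi).symm) (D.δ_pos i).le

theorem Dom.dual_nonneg (j : Fin k) : 0 ≤ ∑ i, δ i * T.a (v i) (v j) := by
  rw [sum_dual D.isMinusTwo]
  exact mul_nonneg (T.w_pos _).le (sub_nonneg.2 (D.le_sum j))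

theorem Dom.pairing : 0 ≤ ∑ i, δ i * ∑ j, T.a (v i) (v j) * T.m (v j) := by
  simp only [Finset.mul_sum]
  rw [Finset.sum_comm]
  refine Finset.sum_nonneg fun j _ => ?_
  simp only [← mul_assoc]
  rw [← Finset.sum_mul]
  exact mul_nonneg (D.dual_nonneg j) (T.m_pos _).le

theorem Dom.part_nonpos (i : Fin k) : ∑ j, T.a (v i) (v j) * T.m (v j) ≤ 0 := by
  have h := row_sum_le T (i := v i) (S := (univ.map v).erase (v i)) (notMem_erase _ _)
  have h' : ∑ j, T.a (v i) (v j) * T.m (v j) =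
      T.a (v i) (v i) * T.m (v i) + ∑ j ∈ (univ.map v).erase (v i), T.a (v i) j * T.m j := by
    rw [Finset.add_sum_erase (univ.map v) (fun j => T.a (v i) j * T.m j) (mem_map_of_mem v (mem_univ i)), Finset.sum_map]
  linarith

/-- Such a configuration uses every index. -/
theorem Dom.card_eq (hk : 0 < k) : k = n := by
  refine le_antisymm (by simpa using Fintype.card_le_of_embedding v) (not_lt.1 fun hlt => ?_)
  obtain ⟨i, hi, j, hj, hij⟩ := T.connected (univ.map v) ⟨v ⟨0, hk⟩, mem_map_of_mem v (mem_univ _)⟩ fun e => by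
    have := congrArg Finset.card e
    rw [card_map, card_univ, Fintype.card_fin, card_univ, Fintype.card_fin] at this
    omega
  obtain ⟨i, -, rfl⟩ := mem_map.1 hi
  have hne : v i ≠ j := fun e => hj (e ▸ mem_map_of_mem v (mem_univ i))
  have hstrict : ∑ l, T.a (v i) (v l) * T.m (v l) < 0 := by
    have h := row_sum_le T (i := v i) (S := insert j ((univ.map v).erase (v i)))
      (by simp [hne])
    rw [sum_insert fun h' => hj (mem_of_mem_erase h')] at h
    have h' : ∑ l, T.a (v i) (v l) * T.m (v l) =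
        T.a (v i) (v i) * T.m (v i) + ∑ l ∈ (univ.map v).erase (v i), T.a (v i) l * T.m l := by
      rw [Finset.add_sum_erase (univ.map v) (fun l => T.a (v i) l * T.m l) (mem_map_of_mem v (mem_univ i)), Finset.sum_map]
    have := mul_pos (a_pos T hne hij) (T.m_pos j)
    linarith
  have := Finset.sum_lt_sum (s := univ)
    (fun l _ => mul_nonpos_of_nonneg_of_nonpos (D.δ_pos l).le (D.part_nonpos l))
    ⟨i, mem_univ i, mul_neg_of_pos_of_neg (D.δ_pos i) hstrict⟩
  rw [Finset.sum_const_zero] at this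
  exact this.not_ge D.pairing

theorem Dom.false_of_lt (hk : 0 < k) (hlt : k < n) : False := hlt.ne (D.card_eq hk)

theorem Dom.dual_eq_zero (hk : 0 < k) (j : Fin k) : ∑ i, δ i * T.a (v i) (v j) = 0 := by
  obtain rfl := D.card_eq hk
  have hb : Function.Bijective v := Finite.injective_iff_bijective.1 v.injective
  have h0 : ∀ i, ∑ j, T.a (v i) (v j) * T.m (v j) = 0 := fun i =>
    (hb.sum_comp fun j => T.a (v i) j * T.m j).trans (row_eq T (v i))
  have hs : ∑ j, (∑ i, δ i * T.a (v i) (v j)) * T.m (v j) = 0 := by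
    simp only [Finset.sum_mul]
    rw [Finset.sum_comm]
    refine Finset.sum_eq_zero fun i _ => ?_
    simp only [mul_assoc]
    rw [← Finset.mul_sum, h0, mul_zero]
  have := (Finset.sum_eq_zero_iff_of_nonneg fun j _ => mul_nonneg (D.dual_nonneg j) (T.m_pos _).le).1 hs j (mem_univ _)
  exact (mul_eq_zero.1 this).resolve_right (T.m_pos _).ne'

theorem Dom.eq (hk : 0 < k) {j i : Fin k} (hji : j ≠ i) : A j i = ω j * cc T (v j) (v i) := by
  have h := D.dual_eq_zero hk j
  rw [sum_dual D.isMinusTwo, mul_eq_zero, sub_eq_zero] at h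
  have h' := h.resolve_left (T.w_pos _).ne'
  have hle : ∀ l ∈ univ.erase j, A j l * δ l ≤ ω j * cc T (v j) (v l) * δ l := fun l hl =>
    mul_le_mul_of_nonneg_right (D.le j l (ne_of_mem_erase hl).symm) (D.δ_pos l).le
  have hs : ∑ l ∈ univ.erase j, A j l * δ l = ∑ l ∈ univ.erase j, ω j * cc T (v j) (v l) * δ l := by
    refine le_antisymm (Finset.sum_le_sum hle) ?_
    simp only [mul_assoc (ω j)]
    rw [← Finset.mul_sum, h', ← mul_assoc, mul_comm (ω j) 2]
    exact D.affine j
  exact mul_right_cancel₀ (D.δ_pos i).ne'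
    ((Finset.sum_eq_sum_iff_of_le hle).1 hs i (mem_erase.2 ⟨hji.symm, mem_univ _⟩))

theorem Dom.proportional (hk : 0 < k) (i j : Fin k) : δ i * T.m (v j) = δ j * T.m (v i) := by
  obtain rfl := D.card_eq hk
  let e : Fin k ≃ Fin k := Equiv.ofBijective v (Finite.injective_iff_bijective.1 v.injective)
  have hx : T.a.mulVec (fun l => δ (e.symm l)) = 0 := by
    funext l
    obtain ⟨j, rfl⟩ := e.surjective l
    show ∑ l', T.a (e j) l' * δ (e.symm l') = 0
    rw [← e.sum_comp, ← D.dual_eq_zero hk j]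
    exact Finset.sum_congr rfl fun i _ => by rw [e.symm_apply_apply, a_comm, mul_comm]; rfl
  have := (IsNull.of_type T).proportional hx (v i) (v j)
  rwa [show v i = e i from rfl, show v j = e j from rfl, e.symm_apply_apply, e.symm_apply_apply] at this

end Groth.Agent.NumTypeLib
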