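import Groth.Agent.NumTypeLib.Sub
import Mathlib.Data.Fintype.Card

/-!
# The bound on the entries of a minimal numerical type
-/

open Finset

namespace Groth.Agent.NumTypeLib

open Models

variable {n : ℕ} {T : NumericalType n}

/-- `w i * m i`. -/
def MM (T : NumericalType n) (i : Fin n) : ℤ := T.w i * T.m i

theorem cc_mul_MM (i j : Fin n) : cc T j i * MM T j = T.a i j * T.m j := by
  rw [a_comm T i j, MM, ← w_mul_cc]; ring

theorem MM_pos (i : Fin n) : 0 < MM T i := mul_pos (T.w_pos i) (T.m_pos i)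

theorem MM_le_two_mul {i j : Fin n} (hj : T.IsMinusTwo j) (h : Adj T i j) : MM T i ≤ 2 * MM T j := by
  have h1 := mul_le_neg_diag T h.symm.1
  rw [hj.2] at h1
  have h2 := mw_le (a_pos_of_adj h.symm)
  simp only [MM] at *
  linarith
where
  mw_le {a b : Fin n} (h : 0 < T.a a b) : T.w b * T.m b ≤ T.a a b * T.m b :=
    mul_le_mul_of_nonneg_right (w_le_a T h).2 (T.m_pos b).le

/-- `Reach T k i`: a chain of `k` steps of `(-2)`-indices from `i` to the neighbour of another index. -/
def Reach (T : NumericalType n) : ℕ → Fin n → Prop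
  | 0, i => T.IsMinusTwo i ∧ ∃ j, ¬T.IsMinusTwo j ∧ Adj T i j
  | k + 1, i => T.IsMinusTwo i ∧ ∃ i', Adj T i i' ∧ Reach T k i'

theorem Reach.isMinusTwo : ∀ {k : ℕ} {i : Fin n}, Reach T k i → T.IsMinusTwo i
  | 0, _, h => h.1
  | _ + 1, _, h => h.1

theorem MM_le_pow (B : ℤ) (hB : ∀ j i, ¬T.IsMinusTwo j → Adj T i j → T.a i j * T.m i ≤ B) :
    ∀ {k : ℕ} {i : Fin n}, Reach T k i → MM T i ≤ 2 ^ k * B
  | 0, i, ⟨hi, j, hj, h⟩ => by
    have h1 : MM T i ≤ T.a i j * T.m i :=
      mul_le_mul_of_nonneg_right (w_le_a T (a_pos_of_adj h)).1 (T.m_pos i).le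
    have := hB j i hj h
    simp only [pow_zero, one_mul]
    linarith
  | k + 1, i, ⟨hi, i', h, h'⟩ => by
    have h1 := MM_le_pow B hB h'
    have h2 := MM_le_two_mul h'.isMinusTwo h
    rw [pow_succ]
    nlinarith

theorem exists_reach (j₀ : Fin n) (hj₀ : ¬T.IsMinusTwo j₀) (i : Fin n) :
    ¬T.IsMinusTwo i ∨ ∃ k, Reach T k i := by
  refine forall_of_adj T.connected (fun i => ¬T.IsMinusTwo i ∨ ∃ k, Reach T k i) j₀ (Or.inl hj₀) (fun a b ha hab => ?_) i
  by_cases hb : T.IsMinusTwo b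
  swap
  · exact Or.inl hb
  rcases eq_or_ne a b with rfl | hne
  · exact ha
  rcases ha with ha | ⟨k, ha⟩
  · exact Or.inr ⟨0, hb, a, ha, (show Adj T a b from ⟨hne, hab⟩).symm⟩
  · exact Or.inr ⟨k + 1, hb, a, (show Adj T a b from ⟨hne, hab⟩).symm, ha⟩

/-- A minimal chain to the boundary is a path. -/
theorem exists_path : ∀ (d : ℕ) (i : Fin n), Reach T d i → (∀ l < d, ¬Reach T l i) →
    ∃ p : ℕ → Fin n, p 0 = i ∧ IsPath T p d ∧ ∀ t ≤ d, Reach T (d - t) (p t) ∧ ∀ l < d - t, ¬Reach T l (p t)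
  | 0, i, h, _ => ⟨fun _ => i, rfl, ⟨fun _ _ => h.1, fun a ha b hb _ => by omega, fun a ha => by omega⟩,
      fun t ht => by
        obtain rfl : t = 0 := by omega
        exact ⟨h, fun l hl => by omega⟩⟩
  | d + 1, i, h, hmin => by
    obtain ⟨hi, i', hadj, h'⟩ := h
    have hmin' : ∀ l < d, ¬Reach T l i' := fun l hl hr => hmin (l + 1) (by omega) ⟨hi, i', hadj, hr⟩
    obtain ⟨p, hp0, hp, hr⟩ := exists_path d i' h' hmin'
    let q : ℕ → Fin n := fun t => if t = 0 then i else p (t - 1)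
    have hq : ∀ t ≤ d + 1, Reach T (d + 1 - t) (q t) ∧ ∀ l < d + 1 - t, ¬Reach T l (q t) := by
      intro t ht
      rcases Nat.eq_zero_or_pos t with rfl | h0
      · simp only [q, if_pos, Nat.sub_zero]
        exact ⟨⟨hi, i', hadj, h'⟩, hmin⟩
      · simp only [q, if_neg h0.ne']
        rw [show d + 1 - t = d - (t - 1) by omega]
        exact hr (t - 1) (by omega)
    refine ⟨q, rfl, ⟨fun t ht => (hq t ht).1.isMinusTwo, fun a ha b hb e => ?_, fun t ht => ?_⟩, hq⟩
    · obtain ⟨r1, n1⟩ := hq a ha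
      obtain ⟨r2, n2⟩ := hq b hb
      rw [e] at r1 n1
      rcases lt_trichotomy a b with h | h | h
      · exact absurd r2 (n1 _ (by omega))
      · exact h
      · exact absurd r1 (n2 _ (by omega))
    · rcases Nat.eq_zero_or_pos t with rfl | h0
      · simpa [q, hp0] using hadj
      · have := hp.adj (t - 1) (by omega)
        rw [show t - 1 + 1 = t by omega] at this
        simpa [q, h0.ne'] using this

theorem IsPath.succ_lt {p : ℕ → Fin n} {L : ℕ} (hp : IsPath T p L) {j₀ : Fin n} (hj₀ : ¬T.IsMinusTwo j₀) :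
    L + 1 < n := by
  have := Fintype.card_lt_of_injective_of_notMem (fun i : Fin (L + 1) => p i)
    (fun a b e => Fin.ext (hp.inj a (by omega) b (by omega) e)) (b := j₀)
    (fun ⟨i, hi⟩ => hj₀ (hi ▸ hp.isMinusTwo i (by omega)))
  simpa using this

theorem IsPath.two_succ_lt {p : ℕ → Fin n} {L : ℕ} (hp : IsPath T p L) {j₀ u : Fin n} (hj₀ : ¬T.IsMinusTwo j₀)
    (hu : T.IsMinusTwo u) (hne : ∀ i ≤ L, p i ≠ u) : L + 2 < n := by
  have := Fintype.card_lt_of_injective_of_notMem (fun i : Fin (L + 2) => forkFun p L u i)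
    (fun a b e => Fin.ext (forkFun_inj hp hne a a.isLt b b.isLt e)) (b := j₀)
    (fun ⟨i, hi⟩ => hj₀ (hi ▸ forkFun_minusTwo hp hu i))
  simpa using this

/-- A path extended at its start. -/
def consFun (x : Fin n) (p : ℕ → Fin n) (i : ℕ) : Fin n := if i = 0 then x else p (i - 1)

theorem IsPath.cons {p : ℕ → Fin n} {L : ℕ} (hp : IsPath T p L) {x : Fin n} (hx : T.IsMinusTwo x)
    (hne : ∀ i ≤ L, p i ≠ x) (hadj : Adj T x (p 0)) : IsPath T (consFun x p) (L + 1) where
  isMinusTwo i hi := by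
    unfold consFun
    split_ifs
    · exact hx
    · exact hp.isMinusTwo _ (by omega)
  inj i hi j hj e := by
    unfold consFun at e
    split_ifs at e
    · omega
    · exact absurd e.symm (hne _ (by omega))
    · exact absurd e (hne _ (by omega))
    · have := hp.inj _ (by omega) _ (by omega) e
      omega
  adj i hi := by
    unfold consFun
    rcases Nat.eq_zero_or_pos i with rfl | h0
    · simpa using hadj
    · rw [if_neg h0.ne', if_neg (by omega)]
      have := hp.adj (i - 1) (by omega)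
      rwa [show i - 1 + 1 = i + 1 - 1 by omega] at this

theorem row_MM {i : Fin n} (hi : T.IsMinusTwo i) (s : Finset (Fin n)) (his : i ∉ s)
    (hs : ∀ j, Adj T i j → j ∈ s) : ∑ j ∈ s, cc T j i * MM T j = 2 * MM T i := by
  simp only [cc_mul_MM]
  have h : ∑ j ∈ s, T.a i j * T.m j = -(T.a i i * T.m i) := by
    rw [← row_erase]
    refine Finset.sum_subset (fun j hj => mem_erase.2 ⟨fun e => his (e ▸ hj), mem_univ _⟩) fun j hj hjs => ?_
    by_contra hne
    exact hjs (hs j ⟨(ne_of_mem_erase hj).symm, fun e => hne (by rw [e, zero_mul])⟩)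
  rw [h, hi.2, MM]
  ring

variable {j₀ : Fin n} (hj₀ : ¬T.IsMinusTwo j₀)
include hj₀

/-- Away from the boundary the maximum propagates towards it. -/
theorem max_step {p : ℕ → Fin n} {d : ℕ} (hd : 7 ≤ d) (hp : IsPath T p d)
    (h0 : ∀ j, Adj T (p 0) j → T.IsMinusTwo j) (h1 : ∀ w, Adj T (p 0) w → ∀ x, Adj T w x → T.IsMinusTwo x)
    (hmax : ∀ i, T.IsMinusTwo i → MM T i ≤ MM T (p 0)) : MM T (p 1) = MM T (p 0) := by
  classical
  have hlt := hp.succ_lt hj₀
  have hp1 := hp.adj 0 (by omega)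
  rw [zero_add] at hp1
  have hoff : ∀ w, Adj T (p 0) w → w ≠ p 1 → ∀ i ≤ d, p i ≠ w := by
    intro w hw hw1 i hi e
    subst e
    rcases Nat.lt_or_ge i 2 with h | h
    · interval_cases i
      · exact hw.1 rfl
      · exact hw1 rfl
    · exact hw.2 (a_eq_zero_of_path hp hlt h hi)
  have hM := MM_pos (T := T) (p 0)
  by_cases hw : ∃ w, Adj T (p 0) w ∧ w ≠ p 1
  swap
  · push Not at hw
    have hrow := row_MM (hp.isMinusTwo 0 (by omega)) {p 1} (by simpa using hp1.1) (by simpa using hw)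
    rw [sum_singleton] at hrow
    have hle := hmax _ (hp.isMinusTwo 1 (by omega))
    have hge := hp1.symm.one_le
    rcases pair_cases (by omega) (hp.isMinusTwo 0 (by omega)) (hp.isMinusTwo 1 (by omega)) hp1 with
      ⟨-, h | h | h⟩ | ⟨-, h⟩
    · rw [h] at hrow; linarith
    · rw [h] at hrow; linarith
    · rcases found_G2 (hp.rev (a := 2) (M := 2) (by omega) le_rfl) (Or.inl (by simp [h])) with ⟨hk, -⟩ | ⟨hk, -⟩ <;> omega
    · rw [h] at hrow; linarith
  obtain ⟨w, hw, hw1⟩ := hw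
  have hwm := h0 w hw
  have hq := hp.cons hwm (hoff w hw hw1) hw.symm
  have hqlt := hq.succ_lt hj₀
  by_cases hw' : ∃ w', Adj T (p 0) w' ∧ w' ≠ p 1 ∧ w' ≠ w
  swap
  · push Not at hw'
    have hrow := row_MM (hp.isMinusTwo 0 (by omega)) {w, p 1} (by simp [hw.1, hp1.1]) (fun j hj => by
      simp only [mem_insert, mem_singleton]
      by_cases h : j = p 1
      · exact Or.inr h
      · exact Or.inl (hw' j hj h))
    rw [sum_pair hw1] at hrow
    have hsimple : cc T (p 1) (p 0) = 1 := (eq_one_of_not_dbl hp1 fun hdb => by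
      rcases found_F4 (hq.rev (a := 4) (M := 4) (by omega) le_rfl)
        (Or.symm (by simpa [Dbl, consFun] using hdb)) with ⟨hk, -⟩ | ⟨hk, -⟩ <;> omega).2
    rw [hsimple, one_mul] at hrow
    have hle := hmax _ (hp.isMinusTwo 1 (by omega))
    have hlew := hmax _ hwm
    rcases pair_cases (by omega) hwm (hp.isMinusTwo 0 (by omega)) hw.symm with ⟨h, -⟩ | ⟨h | h, h'⟩
    · rw [h] at hrow; linarith
    · rw [h] at hrow
      have honly : ∀ x, Adj T w x → x = p 0 := by
        intro x hx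
        by_contra hne
        by_cases hon : ∃ i ≤ d + 1, consFun w p i = x
        · obtain ⟨i, hi, rfl⟩ := hon
          rcases Nat.lt_or_ge i 2 with h2 | h2
          · interval_cases i
            · exact hx.1 (by simp [consFun])
            · exact hne (by simp [consFun])
          · exact hx.2 (by simpa [consFun] using a_eq_zero_of_path hq hqlt (i := 0) h2 hi)
        · push Not at hon
          have hr := hq.cons (h1 w hw x hx) hon (by simpa [consFun] using hx.symm)
          have hdb : 2 ≤ cc T w (p 0) := h ▸ le_rfl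
          rcases found_F4 (hr.rev (a := 4) (M := 4) (by omega) le_rfl)
            (Or.inr (by simpa [consFun] using hdb)) with ⟨hk, -⟩ | ⟨hk, -⟩ <;> omega
      have hroww := row_MM hwm {p 0} (by simpa using hw.1.symm) (by simpa using honly)
      rw [sum_singleton, h', one_mul] at hroww
      linarith
    · rcases found_G2 (hq.rev (a := 2) (M := 2) (by omega) le_rfl)
        (Or.inr (by simp [consFun, h])) with ⟨hk, -⟩ | ⟨hk, -⟩ <;> omega
  obtain ⟨w', hw', hw'1, hww⟩ := hw'
  have hw'm := h0 w' hw'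
  have hqne : ∀ v u, Adj T (p 0) u → u ≠ p 1 → u ≠ v → ∀ i ≤ d + 1, consFun v p i ≠ u := by
    intro v u hu hu1 huv i hi
    unfold consFun
    split_ifs
    · exact huv.symm
    · exact hoff u hu hu1 _ (by omega)
  have honly3 : ∀ x, Adj T (p 0) x → x = p 1 ∨ x = w ∨ x = w' := by
    intro x hx
    by_contra hne
    push Not at hne
    obtain ⟨hk, -⟩ := found_forkFork (hq.segment (a := 0) (M := 2) (by omega)) le_rfl hw'm (h0 x hx)
      (fun i hi => ⟨hqne w w' hw' hw'1 hww _ (by omega), hqne w x hx hne.1 hne.2.1 _ (by omega)⟩)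
      (Ne.symm hne.2.2) (by simpa [consFun] using hw') (by simpa [consFun] using hx)
    omega
  -- each of the two short arms is a leaf
  have hleaf : ∀ v v', Adj T (p 0) v → v ≠ p 1 → Adj T (p 0) v' → v' ≠ p 1 → v' ≠ v →
      2 * MM T v = MM T (p 0) ∧ cc T v (p 0) = 1 := by
    intro v v' hv hv1 hv' hv'1 hvv
    have hvm := h0 v hv
    have hqv := hp.cons hvm (hoff v hv hv1) hv.symm
    have hne' := hqne v v' hv' hv'1 hvv
    have hlt3 := hqv.two_succ_lt hj₀ (h0 v' hv') hne'
    obtain ⟨s1, -, -, s4⟩ := fork_simple hqv (h0 v' hv') hne' (b := 1) (by omega) (by omega)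
      (by simpa [consFun] using hv') hlt3
    obtain ⟨c1, c2⟩ : cc T v (p 0) = 1 ∧ cc T (p 0) v = 1 := by simpa [consFun] using s1 0 (by omega)
    have honly : ∀ x, Adj T v x → x = p 0 := by
      intro x hx
      by_contra hne
      by_cases hon : ∃ i ≤ d + 1, consFun v p i = x
      · obtain ⟨i, hi, rfl⟩ := hon
        rcases Nat.lt_or_ge i 2 with h2 | h2
        · interval_cases i
          · exact hx.1 (by simp [consFun])
          · exact hne (by simp [consFun])
        · exact hx.2 (by simpa [consFun] using a_eq_zero_of_path hqv (by omega) (i := 0) h2 hi)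
      · push Not at hon
        have hxv' : x ≠ v' := fun e => hx.2 (e ▸ by simpa [consFun] using s4 0 (by omega) (by omega))
        have hr := hqv.cons (h1 v hv x hx) hon (by simpa [consFun] using hx.symm)
        have hne7 : ∀ i ≤ 7, consFun x (consFun v p) (7 - i) ≠ v' := fun i hi => by
          by_cases h : 7 - i = 0
          · simpa [consFun, h] using hxv'
          · rw [show consFun x (consFun v p) (7 - i) = consFun v p (7 - i - 1) from if_neg h]
            exact hne' _ (by omega)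
        obtain ⟨hk, -⟩ := found_E8 (hr.rev (a := 7) (M := 7) (by omega) le_rfl) (h0 v' hv') hne7
          (by simpa [consFun] using hv')
        omega
    have hroww := row_MM hvm {p 0} (by simpa using hv.1.symm) (by simpa using honly)
    rw [sum_singleton, c2, one_mul] at hroww
    exact ⟨hroww.symm, c1⟩
  obtain ⟨a1, a2⟩ := hleaf w w' hw hw1 hw' hw'1 hww
  obtain ⟨b1, b2⟩ := hleaf w' w hw' hw'1 hw hw1 hww.symm
  obtain ⟨s1, -⟩ := fork_simple hq hw'm (hqne w w' hw' hw'1 hww) (b := 1) (by omega) (by omega)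
    (by simpa [consFun] using hw') (hq.two_succ_lt hj₀ hw'm (hqne w w' hw' hw'1 hww))
  have c : cc T (p 1) (p 0) = 1 := by simpa [consFun] using (s1 1 (by omega)).2
  have hrow := row_MM (hp.isMinusTwo 0 (by omega)) {p 1, w, w'} (by simp [hp1.1, hw.1, hw'.1])
    (fun j hj => by simpa using honly3 j hj)
  rw [sum_insert (by simp [hw1.symm, hw'1.symm]), sum_pair hww.symm, a2, b2, c] at hrow
  linarith

theorem MM_le (B : ℤ) (hB0 : 0 ≤ B) (hB : ∀ j i, ¬T.IsMinusTwo j → Adj T i j → T.a i j * T.m i ≤ B)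
    (i : Fin n) (hi : T.IsMinusTwo i) : MM T i ≤ 64 * B := by
  classical
  obtain ⟨i₀, hi₀, hmax⟩ := Finset.exists_max_image (univ.filter fun j => T.IsMinusTwo j) (MM T)
    ⟨i, mem_filter.2 ⟨mem_univ _, hi⟩⟩
  let P : ℕ → Prop := fun k => ∃ j, Reach T k j ∧ MM T j = MM T i₀
  have hP : ∃ k, P k := by
    obtain ⟨k, hk⟩ := (exists_reach j₀ hj₀ i₀).resolve_left (not_not.2 (mem_filter.1 hi₀).2)
    exact ⟨k, i₀, hk, rfl⟩
  obtain ⟨j, hj, hje⟩ := Nat.find_spec hP
  have hle : MM T i ≤ MM T j := hje ▸ hmax i (mem_filter.2 ⟨mem_univ _, hi⟩)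
  rcases Nat.lt_or_ge (Nat.find hP) 7 with h | h
  · refine hle.trans ((MM_le_pow B hB hj).trans ?_)
    have : (2 : ℤ) ^ Nat.find hP ≤ 2 ^ 6 := pow_le_pow_right₀ one_le_two (by omega)
    nlinarith
  exfalso
  obtain ⟨p, hp0, hp, hr⟩ := exists_path _ j hj fun l hl hl' => Nat.find_min hP hl ⟨j, hl', hje⟩
  have hint : ∀ k, 0 < k → ∀ x, T.IsMinusTwo x → (∀ l < k, ¬Reach T l x) → ∀ y, Adj T x y → T.IsMinusTwo y :=
    fun k hk x hx hn y hy => by_contra fun hy' => hn 0 hk ⟨hx, y, hy', hy⟩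
  obtain ⟨r0, n0⟩ := hr 0 (by omega)
  obtain ⟨r1, n1⟩ := hr 1 (by omega)
  have hmax' : ∀ x, T.IsMinusTwo x → MM T x ≤ MM T (p 0) := fun x hx =>
    hp0 ▸ hje ▸ hmax x (mem_filter.2 ⟨mem_univ _, hx⟩)
  have hnb : ∀ w, Adj T (p 0) w → T.IsMinusTwo w := hint _ (by omega) _ r0.isMinusTwo n0
  have hstep := max_step hj₀ h hp hnb (fun w hw x hx => by
    refine hint (Nat.find hP - 1) (by omega) w (hnb w hw) (fun l hl hl' => ?_) x hx
    exact n0 (l + 1) (by omega) ⟨r0.isMinusTwo, w, hw, hl'⟩) hmax'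
  exact Nat.find_min hP (show Nat.find hP - 1 < Nat.find hP by omega)
    ⟨p 1, r1, hstep.trans (by rw [hp0, hje])⟩

omit hj₀ in
theorem mul_abs_le (hmin : T.IsMinimal) (hg : 2 ≤ T.genus) (i j : Fin n) :
    T.m i * |T.a i j| ≤ 768 * T.genus := by
  classical
  rcases Nat.lt_or_ge 1 n with hn | hn
  swap
  · obtain rfl : n = 1 := le_antisymm hn T.pos
    have h := row_eq T 0
    rw [Fin.sum_univ_one, mul_eq_zero] at h
    rw [Fin.fin_one_eq_zero i, Fin.fin_one_eq_zero j, h.resolve_right (T.m_pos 0).ne']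
    simp; linarith
  have hJ : ∀ l, ¬T.IsMinusTwo l → -(T.a l l * T.m l) ≤ 6 * T.genus - 6 := by
    intro l hl
    have hc1 : 1 ≤ contrib T l := Int.add_one_le_iff.2
      (lt_of_le_of_ne (contrib_nonneg hmin hn l) fun h => hl (isMinusTwo_of_contrib_zero T hn l h.symm))
    have hc := contrib_le hmin hn l
    obtain ⟨k, hk, ha⟩ := exists_neg_diag T hn l
    have he : contrib T l = T.m l * T.w l * (2 * (T.g l - 1) + k) := by rw [contrib, ha]; ring
    have hpos : 0 < 2 * (T.g l - 1) + k := pos_of_mul_pos_right (by linarith) (mul_pos (T.m_pos l) (T.w_pos l)).le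
    have := T.g_nonneg l
    have h3 := mul_le_mul_of_nonneg_left (show k ≤ 3 * (2 * (T.g l - 1) + k) by omega)
      (mul_pos (T.m_pos l) (T.w_pos l)).le
    rw [ha]
    linarith
  have hdiag : ∀ l, -(T.a l l * T.m l) ≤ 768 * T.genus := by
    intro l
    by_cases hl : T.IsMinusTwo l
    swap
    · linarith [hJ l hl]
    obtain ⟨j₁, hj₁⟩ : ∃ l, ¬T.IsMinusTwo l := by
      by_contra hall
      push Not at hall
      have h1 := sum_contrib T
      rw [Finset.sum_eq_zero fun x _ => by rw [contrib, (hall x).1, (hall x).2]; ring] at h1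
      linarith
    have := MM_le hj₁ (6 * T.genus - 6) (by linarith) (fun a b ha hb => by
      have h1 := mul_le_neg_diag T hb.symm.1
      rw [a_comm T a b] at h1
      exact h1.trans (hJ a ha)) l hl
    rw [hl.2]
    simp only [MM] at this
    linarith
  rcases eq_or_ne i j with rfl | hne
  · rw [abs_of_neg (diag_neg T hn i)]
    linarith [hdiag i]
  · rw [abs_of_nonneg (a_nonneg T hne)]
    have h1 := mul_le_neg_diag T hne.symm
    rw [a_comm T j i] at h1
    linarith [hdiag j]

end Groth.Agent.NumTypeLib
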