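import Groth.Agent.NumTypeLib.Sub

/-!
# Chains of `(-2)`-indices which do not fill the whole numerical type
-/

open Finset

namespace Groth.Agent.NumTypeLib

open Models

variable {n : ℕ} {T : NumericalType n} {p : ℕ → Fin n} {L : ℕ}

/-- All edges simple. -/
def ShapeA (T : NumericalType n) (q : ℕ → Fin n) (L : ℕ) (w : ℤ) : Prop :=
  (∀ i ≤ L, T.w (q i) = w) ∧ (∀ e < L, T.a (q e) (q (e + 1)) = w) ∧
    ∀ e < L, cc T (q e) (q (e + 1)) = 1 ∧ cc T (q (e + 1)) (q e) = 1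

/-- The last edge double, the last index heavy. -/
def ShapeC (T : NumericalType n) (q : ℕ → Fin n) (L : ℕ) (w : ℤ) : Prop :=
  (∀ i < L, T.w (q i) = w) ∧ T.w (q L) = 2 * w ∧ (∀ e, e + 1 < L → T.a (q e) (q (e + 1)) = w) ∧
    T.a (q (L - 1)) (q L) = 2 * w ∧
    (∀ e, e + 1 < L → cc T (q e) (q (e + 1)) = 1 ∧ cc T (q (e + 1)) (q e) = 1) ∧
    cc T (q (L - 1)) (q L) = 2 ∧ cc T (q L) (q (L - 1)) = 1

/-- The last edge double, the last index light. -/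
def ShapeB (T : NumericalType n) (q : ℕ → Fin n) (L : ℕ) (w : ℤ) : Prop :=
  (∀ i < L, T.w (q i) = 2 * w) ∧ T.w (q L) = w ∧ (∀ e < L, T.a (q e) (q (e + 1)) = 2 * w) ∧
    (∀ e, e + 1 < L → cc T (q e) (q (e + 1)) = 1 ∧ cc T (q (e + 1)) (q e) = 1) ∧
    cc T (q (L - 1)) (q L) = 1 ∧ cc T (q L) (q (L - 1)) = 2

/-- `F₄`. -/
def ShapeF (T : NumericalType n) (q : ℕ → Fin n) (w : ℤ) : Prop :=
  T.w (q 0) = w ∧ T.w (q 1) = w ∧ T.w (q 2) = 2 * w ∧ T.w (q 3) = 2 * w ∧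
    T.a (q 0) (q 1) = w ∧ T.a (q 1) (q 2) = 2 * w ∧ T.a (q 2) (q 3) = 2 * w ∧
    cc T (q 0) (q 1) = 1 ∧ cc T (q 1) (q 0) = 1 ∧ cc T (q 1) (q 2) = 2 ∧ cc T (q 2) (q 1) = 1 ∧
    cc T (q 2) (q 3) = 1 ∧ cc T (q 3) (q 2) = 1

theorem chain_shape (hp : IsPath T p L) (hL : 2 ≤ L) (hlt : L + 1 < n) :
    ∃ (q : ℕ → Fin n) (w : ℤ), (q = p ∨ q = fun i => p (L - i)) ∧ IsPath T q L ∧
      (ShapeA T q L w ∨ ShapeC T q L w ∨ ShapeB T q L w ∨ (L = 3 ∧ ShapeF T q w)) := by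
  rcases chain_cases hp hL hlt with h | ⟨q, hq, hqp, ⟨hs, hd⟩ | ⟨rfl, u1, u2, a1, a2, v1, v2⟩⟩
  · exact ⟨p, T.w (p 0), Or.inl rfl, hp, Or.inl ⟨w_eq_of_simple h, fun e he => a_eq_of_simple h he, h⟩⟩
  · obtain ⟨l, rfl⟩ : ∃ l, L = l + 1 := ⟨L - 1, by omega⟩
    have hs' : ∀ e < l, cc T (q e) (q (e + 1)) = 1 ∧ cc T (q (e + 1)) (q e) = 1 := fun e he => hs e (by omega)
    have hw := w_eq_of_simple hs'
    have ha : ∀ e < l, T.a (q e) (q (e + 1)) = T.w (q 0) := fun e he => a_eq_of_simple hs' he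
    rcases hd with ⟨c1, c2⟩ | ⟨c1, c2⟩ <;> simp only [Nat.add_sub_cancel] at c1 c2
    · obtain ⟨e1, e2⟩ := w_a_of_cc c1 c2
      rw [hw l le_rfl] at e1 e2
      exact ⟨q, T.w (q 0), hq, hqp, Or.inr (Or.inl ⟨fun i hi => hw i (by omega), e1, fun e he => ha e (by omega),
        by simpa using e2, hs, by simpa using c1, by simpa using c2⟩)⟩
    · obtain ⟨e1, e2⟩ := w_a_of_cc c2 c1
      have e3 : T.w (q 0) = 2 * T.w (q (l + 1)) := (hw l le_rfl).symm.trans e1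
      refine ⟨q, T.w (q (l + 1)), hq, hqp, Or.inr (Or.inr (Or.inl ⟨fun i hi => (hw i (by omega)).trans e3, rfl,
        fun e he => ?_, hs, by simpa using c1, by simpa using c2⟩))⟩
      rcases (Nat.lt_succ_iff.1 he).eq_or_lt with rfl | h
      · rw [a_comm, e2]
      · rw [ha e h, e3]
  · obtain ⟨w1, e1⟩ := w_a_of_one u1 u2
    obtain ⟨w2, e2⟩ := w_a_of_cc a1 a2
    obtain ⟨w3, e3⟩ := w_a_of_one v1 v2
    rw [w1] at w2 e2
    rw [w2] at w3 e3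
    exact ⟨q, T.w (q 0), hq, hqp, Or.inr (Or.inr (Or.inr ⟨rfl, rfl, w1, w2, w3, e1, e2, e3, u1, u2, a1, a2, v1, v2⟩))⟩

end Groth.Agent.NumTypeLib
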