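import Groth.Agent.NumTypeLib.ConfigE
import Mathlib.Data.Nat.Find

/-!
# Numerical types all of whose indices are `(-2)`-indices
-/

open Finset

namespace Groth.Agent.NumTypeLib

open Models

variable {n : ℕ} {T : NumericalType n}

/-- `T` is one of the affine tables. -/
inductive Classified (T : NumericalType n) : Prop
  | cyc (h : 3 ≤ n) (t : HasTab T (Tab.cyc n))
  | upUp (h : 3 ≤ n) (t : HasTab T (Tab.upUp n))
  | upDown (h : 3 ≤ n) (t : HasTab T (Tab.upDown n))
  | downUp (h : 3 ≤ n) (t : HasTab T (Tab.downUp n))
  | forkUp (h : 4 ≤ n) (t : HasTab T (Tab.forkUp n))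
  | forkDown (h : 4 ≤ n) (t : HasTab T (Tab.forkDown n))
  | forkFork (h : 5 ≤ n) (t : HasTab T (Tab.forkFork n))
  | A11 (h : n = 2) (t : HasTab T Tab.A11)
  | A22 (h : n = 2) (t : HasTab T Tab.A22)
  | G2a (h : n = 3) (t : HasTab T Tab.G2a)
  | G2b (h : n = 3) (t : HasTab T Tab.G2b)
  | F4a (h : n = 5) (t : HasTab T Tab.F4a)
  | F4b (h : n = 5) (t : HasTab T Tab.F4b)
  | E6 (h : n = 7) (t : HasTab T Tab.E6)
  | E7 (h : n = 8) (t : HasTab T Tab.E7)
  | E8 (h : n = 9) (t : HasTab T Tab.E8)

/-- An edge of product at least two. -/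
def Dbl (T : NumericalType n) (i j : Fin n) : Prop := 2 ≤ cc T i j ∨ 2 ≤ cc T j i

theorem Dbl.symm {i j : Fin n} (h : Dbl T i j) : Dbl T j i := Or.symm h

theorem eq_one_of_not_dbl {i j : Fin n} (ha : Adj T i j) (h : ¬Dbl T i j) : cc T i j = 1 ∧ cc T j i = 1 := by
  have := ha.one_le
  have := ha.symm.one_le
  unfold Dbl at h
  omega

variable {p : ℕ → Fin n} {L : ℕ}

/-- A path extended by one index. -/
def snocFun (p : ℕ → Fin n) (L : ℕ) (x : Fin n) (i : ℕ) : Fin n := if i ≤ L then p i else x

theorem IsPath.snoc (hp : IsPath T p L) {x : Fin n} (hx : T.IsMinusTwo x) (hne : ∀ i ≤ L, p i ≠ x)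
    (hadj : Adj T (p L) x) : IsPath T (snocFun p L x) (L + 1) where
  isMinusTwo i _ := by
    unfold snocFun
    split_ifs with h
    · exact hp.isMinusTwo i h
    · exact hx
  inj i hi j hj e := by
    unfold snocFun at e
    split_ifs at e
    · exact hp.inj i (by omega) j (by omega) e
    · exact absurd e (hne i (by omega))
    · exact absurd e.symm (hne j (by omega))
    · omega
  adj i hi := by
    unfold snocFun
    rw [if_pos (by omega : i ≤ L)]
    split_ifs with h
    · exact hp.adj i (by omega)
    · obtain rfl : i = L := by omega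
      exact hadj

theorem IsPath.le_card (hp : IsPath T p L) : L + 1 ≤ n := by
  simpa using Fintype.card_le_of_injective (fun i : Fin (L + 1) => p i)
    fun i j e => Fin.ext (hp.inj i (by omega) j (by omega) e)

theorem classified_twoDbl (hp : IsPath T p L) (hL : 2 ≤ L) (h0 : Dbl T (p 0) (p 1))
    (h1 : Dbl T (p (L - 1)) (p L)) : Classified T := by
  rcases h0 with h0 | h0 <;> rcases h1 with h1 | h1
  · obtain ⟨rfl, h⟩ := found_upUp hp hL h0 h1
    exact .upUp (by omega) h
  · obtain ⟨rfl, h⟩ := found_upDown hp hL h0 h1
    exact .upDown (by omega) h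
  · obtain ⟨rfl, h⟩ := found_downUp hp hL h0 h1
    exact .downUp (by omega) h
  · have hr := hp.rev le_rfl le_rfl
    obtain ⟨rfl, h⟩ := found_upUp hr hL (by simpa using h1) (by simpa [show L - (L - 1) = 1 by omega] using h0)
    exact .upUp (by omega) h

theorem classified_forkDbl (hp : IsPath T p L) (hL : 2 ≤ L) {u : Fin n} (hu : T.IsMinusTwo u)
    (hne : ∀ i ≤ L, p i ≠ u) (hadj : Adj T (p (L - 1)) u) (h0 : Dbl T (p 0) (p 1)) : Classified T := by
  rcases h0 with h0 | h0
  · obtain ⟨rfl, h⟩ := found_forkDown hp hL hu hne hadj h0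
    exact .forkDown (by omega) h
  · obtain ⟨rfl, h⟩ := found_forkUp hp hL hu hne hadj h0
    exact .forkUp (by omega) h

theorem classified_forkFork (hp : IsPath T p L) (hL : 2 ≤ L) {u u' : Fin n} (hu : T.IsMinusTwo u)
    (hu' : T.IsMinusTwo u') (hne : ∀ i ≤ L, p i ≠ u ∧ p i ≠ u') (huu : u ≠ u') (hadj : Adj T (p 1) u)
    (hadj' : Adj T (p (L - 1)) u') : Classified T := by
  obtain ⟨rfl, h⟩ := found_forkFork hp hL hu hu' hne huu hadj hadj'
  exact .forkFork (by omega) h

theorem classified_cycle (hp : IsPath T p L) (hL : 2 ≤ L) (hclose : Adj T (p L) (p 0)) : Classified T := by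
  obtain ⟨rfl, h⟩ := found_cyc hp hL hclose
  exact .cyc (by omega) h

theorem classified_pair {a b : Fin n} (ha : T.IsMinusTwo a) (hb : T.IsMinusTwo b) (hab : Adj T a b)
    (h : 4 ≤ cc T a b * cc T b a) : Classified T := by
  rcases found_pair ha hb hab h with ⟨rfl, t⟩ | ⟨rfl, t⟩
  · exact .A11 rfl t
  · exact .A22 rfl t

theorem classified_triple (hp : IsPath T p 2) (h : 3 ≤ cc T (p 1) (p 2) ∨ 3 ≤ cc T (p 2) (p 1)) :
    Classified T := by
  rcases found_G2 hp h with ⟨rfl, t⟩ | ⟨rfl, t⟩
  · exact .G2a rfl t
  · exact .G2b rfl t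

section Main

variable (hmt : ∀ i, T.IsMinusTwo i)
include hmt

theorem row_cc (i : Fin n) (s : Finset (Fin n)) (his : i ∉ s) (hs : ∀ j, Adj T i j → j ∈ s) :
    ∑ j ∈ s, cc T i j * T.m j = 2 * T.m i := by
  have h : ∑ j ∈ s, T.a i j * T.m j = -(T.a i i * T.m i) := by
    rw [← row_erase]
    refine Finset.sum_subset (fun j hj => mem_erase.2 ⟨fun e => his (e ▸ hj), mem_univ _⟩) fun j hj hjs => ?_
    have : T.a i j = 0 := by
      by_contra hne
      exact hjs (hs j ⟨(ne_of_mem_erase hj).symm, hne⟩)
    rw [this, zero_mul]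
  refine mul_left_cancel₀ (T.w_pos i).ne' ?_
  rw [Finset.mul_sum]
  simp only [← mul_assoc, w_mul_cc]
  rw [h, (hmt i).2]
  ring

omit hmt in
theorem exists_maximal_path (hn : 1 < n) (hmt : ∀ i, T.IsMinusTwo i) :
    ∃ p L, 1 ≤ L ∧ IsPath T p L ∧ ∀ q M, IsPath T q M → M ≤ L := by
  classical
  let P : ℕ → Prop := fun M => ∃ q, IsPath T q M
  have h1 : P 1 := by
    obtain ⟨j, hne, hj⟩ := exists_adj T hn ⟨0, by omega⟩
    refine ⟨fun i => if i = 0 then ⟨0, by omega⟩ else j, fun i _ => hmt _, fun a ha b hb e => ?_, fun i hi => ?_⟩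
    · interval_cases a <;> interval_cases b <;> simp at e ⊢ <;> first | exact hne e | exact hne e.symm
    · obtain rfl : i = 0 := by omega
      exact ⟨hne, hj.ne'⟩
  obtain ⟨q, hq⟩ : P (Nat.findGreatest P n) := Nat.findGreatest_spec (by omega : 1 ≤ n) h1
  exact ⟨q, _, Nat.le_findGreatest (by omega) h1, hq,
    fun q' M hM => Nat.le_findGreatest (by have := hM.le_card; omega) ⟨q', hM⟩⟩

/-- A linear stretch of multiplicities along simple edges starting at a leaf. -/
theorem linear_from_leaf (hp : IsPath T p L) (hL : 1 ≤ L) (hleaf : ∀ j, Adj T (p 0) j → j = p 1) (e : ℕ) (he : e ≤ L)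
    (hs : ∀ i < e, ¬Dbl T (p i) (p (i + 1)))
    (hint : ∀ i, 0 < i → i < e → ∀ j, Adj T (p i) j → j = p (i - 1) ∨ j = p (i + 1)) :
    ∀ i ≤ e, T.m (p i) = (i + 1) * T.m (p 0)
  | 0, _ => by simp
  | 1, h1 => by
    have := row_cc hmt (p 0) {p 1} (by simpa using (hp.adj 0 (by omega)).1) (by simpa using hleaf)
    rw [sum_singleton, (eq_one_of_not_dbl (hp.adj 0 (by omega)) (hs 0 (by omega))).1] at this
    norm_num
    linarith
  | i + 2, h2 => by
    have ih1 := linear_from_leaf hp hL hleaf e he hs hint (i + 1) (by omega)
    have ih0 := linear_from_leaf hp hL hleaf e he hs hint i (by omega)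
    have hne : p i ≠ p (i + 2) := fun h => by have := hp.inj i (by omega) (i + 2) (by omega) h; omega
    have := row_cc hmt (p (i + 1)) {p i, p (i + 2)}
      (by simp [(hp.adj i (by omega)).1.symm, (hp.adj (i + 1) (by omega)).1])
      (fun j hj => by simpa using hint (i + 1) (by omega) (by omega) j hj)
    rw [sum_pair hne, (eq_one_of_not_dbl (hp.adj i (by omega)) (hs i (by omega))).2,
      (eq_one_of_not_dbl (hp.adj (i + 1) (by omega)) (hs (i + 1) (by omega))).1] at this
    push_cast at *
    linarith

variable (hn : 1 < n)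
include hn

theorem classified_of_isMinusTwo : Classified T := by
  classical
  by_contra hC
  obtain ⟨p, L, hL, hp, hmax⟩ := exists_maximal_path hn hmt
  have chord : ∀ i j, i + 2 ≤ j → j ≤ L → ¬Adj T (p i) (p j) := fun i j hij hj h =>
    hC (classified_cycle (hp.segment (a := i) (M := j - i) (by omega)) (by omega)
      (by simpa [show i + (j - i) = j by omega] using h.symm))
  have hend : ∀ x, Adj T (p L) x → x = p (L - 1) := by
    intro x hx
    by_cases hon : ∃ i ≤ L, p i = x
    · obtain ⟨i, hi, rfl⟩ := hon
      by_contra hne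
      have h1 : i ≠ L - 1 := fun h => hne (h ▸ rfl)
      have h2 : i ≠ L := fun h => hx.1 (h ▸ rfl)
      exact chord i L (by omega) le_rfl hx.symm
    · push Not at hon
      have := hmax _ _ (hp.snoc (hmt x) hon hx)
      omega
  have hr := hp.rev le_rfl le_rfl
  have hstart : ∀ x, Adj T (p 0) x → x = p 1 := by
    intro x hx
    by_cases hon : ∃ i ≤ L, p i = x
    · obtain ⟨i, hi, rfl⟩ := hon
      by_contra hne
      have h1 : i ≠ 1 := fun h => hne (h ▸ rfl)
      have h2 : i ≠ 0 := fun h => hx.1 (h ▸ rfl)
      exact chord 0 i (by omega) hi hx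
    · push Not at hon
      have := hmax _ _ (hr.snoc (hmt x) (fun i hi => hon _ (by omega)) (by simpa using hx))
      omega
  have hL2 : 2 ≤ L := by
    by_contra h
    obtain rfl : L = 1 := by omega
    have h0 := row_cc hmt (p 0) {p 1} (by simpa using (hp.adj 0 (by omega)).1) (by simpa using hstart)
    have h1 := row_cc hmt (p 1) {p 0} (by simpa using (hp.adj 0 (by omega)).1.symm) (by simpa using hend)
    rw [sum_singleton] at h0 h1
    refine hC (classified_pair (hmt _) (hmt _) (hp.adj 0 (by omega)) (le_of_eq ?_))
    refine mul_right_cancel₀ (mul_pos (T.m_pos (p 1)) (T.m_pos (p 0))).ne' ?_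
    calc (4 : ℤ) * (T.m (p 1) * T.m (p 0)) = (2 * T.m (p 0)) * (2 * T.m (p 1)) := by ring
      _ = (cc T (p 0) (p 1) * T.m (p 1)) * (cc T (p 1) (p 0) * T.m (p 0)) := by rw [h0, h1]
      _ = _ := by ring
  by_cases hoff : ∃ x, ∀ i ≤ L, p i ≠ x
  · -- a branch
    obtain ⟨u, b, hu, hb⟩ : ∃ u b, (∀ i ≤ L, p i ≠ u) ∧ b ≤ L ∧ Adj T (p b) u := by
      by_contra h
      push Not at h
      obtain ⟨x, hx⟩ := hoff
      obtain ⟨i, hi, hix⟩ := forall_of_adj T.connected (fun z => ∃ i ≤ L, p i = z) (p 0) ⟨0, by omega, rfl⟩
        (fun z z' ⟨i, hi, hiz⟩ hzz' => by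
          by_contra hno
          push Not at hno
          exact h z' i hno hi ⟨hno i hi, hiz ▸ hzz'⟩) x
      exact hx i hi hix
    obtain ⟨hbL, hbu⟩ := hb
    have hb0 : 0 < b := Nat.pos_of_ne_zero fun h => hu 1 (by omega) (hstart u (h ▸ hbu)).symm
    have hb1 : b < L := lt_of_le_of_ne hbL fun h => hu (L - 1) (by omega) (hend u (h ▸ hbu)).symm
    have humid : ∀ w, Adj T u w → w = p b := by
      intro w hw
      by_contra hne
      by_cases hon : ∃ i ≤ L, p i = w
      · obtain ⟨c, hc, rfl⟩ := hon
        rcases lt_or_gt_of_ne (fun h : c = b => hne (h ▸ rfl)) with h | h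
        · have q := (hp.segment (a := c) (M := b - c) (by omega)).snoc (hmt u) (fun i hi => hu _ (by omega))
            (by simpa [show c + (b - c) = b by omega] using hbu)
          exact hC (classified_cycle q (by omega) (by simpa [snocFun] using hw))
        · have q := (hp.segment (a := b) (M := c - b) (by omega)).snoc (hmt u) (fun i hi => hu _ (by omega))
            (by simpa [show b + (c - b) = c by omega] using hw.symm)
          exact hC (classified_cycle q (by omega) (by simpa [snocFun] using hbu.symm))
      · push Not at hon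
        have hlong : 2 ≤ b ∧ b + 2 ≤ L := by
          constructor <;> by_contra h
          · have q := (hp.rev (a := L) (M := L - b) le_rfl (by omega)).snoc (hmt u) (fun i hi => hu _ (by omega))
              (by simpa [show L - (L - b) = b by omega] using hbu)
            have q' := q.snoc (hmt w) (fun i hi => by
              unfold snocFun; split_ifs
              · exact hon _ (by omega)
              · exact hw.1) (by simpa [snocFun] using hw)
            have := hmax _ _ q'
            omega
          · have q := (hp.segment (a := 0) (M := b) (by omega)).snoc (hmt u) (fun i hi => hu _ (by omega))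
              (by simpa using hbu)
            have q' := q.snoc (hmt w) (fun i hi => by
              unfold snocFun; split_ifs
              · exact hon _ (by omega)
              · exact hw.1) (by simpa [snocFun] using hw)
            have := hmax _ _ q'
            omega
        obtain ⟨rfl, t⟩ := found_E6 (hp.segment (a := b - 2) (M := 4) (by omega)) (hmt u) (hmt w)
          (fun i hi => ⟨hu _ (by omega), hon _ (by omega)⟩) hw (by simpa [show b - 2 + 2 = b by omega] using hbu)
        exact hC (.E6 rfl t)
    have honly : ∀ u' b', (∀ i ≤ L, p i ≠ u') → b' ≤ L → Adj T (p b') u' → u' = u ∧ b' = b := by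
      intro u' b' hu' hb'L hbu'
      have hb'0 : 0 < b' := Nat.pos_of_ne_zero fun h => hu' 1 (by omega) (hstart u' (h ▸ hbu')).symm
      have hb'1 : b' < L := lt_of_le_of_ne hb'L fun h => hu' (L - 1) (by omega) (hend u' (h ▸ hbu')).symm
      by_cases huu : u' = u
      · subst huu
        exact ⟨rfl, hp.inj b' hb'L b hbL (humid _ hbu'.symm)⟩
      · refine absurd ?_ hC
        rcases le_total b b' with h | h
        · exact classified_forkFork (hp.segment (a := b - 1) (M := b' - b + 2) (by omega)) (by omega) (hmt u) (hmt u')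
            (fun i hi => ⟨hu _ (by omega), hu' _ (by omega)⟩) (Ne.symm huu)
            (by simpa [show b - 1 + 1 = b by omega] using hbu)
            (by simpa [show b - 1 + (b' - b + 2 - 1) = b' by omega, show b - 1 + (b' - b + 1) = b' by omega] using hbu')
        · exact classified_forkFork (hp.segment (a := b' - 1) (M := b - b' + 2) (by omega)) (by omega) (hmt u') (hmt u)
            (fun i hi => ⟨hu' _ (by omega), hu _ (by omega)⟩) huu
            (by simpa [show b' - 1 + 1 = b' by omega] using hbu')
            (by simpa [show b' - 1 + (b - b' + 2 - 1) = b by omega, show b' - 1 + (b - b' + 1) = b by omega] using hbu)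
    have hdbu : ¬Dbl T u (p b) := fun hd => by
      have q := ((hp.rev (a := b + 1) (M := 1) (by omega) (by omega)).snoc (hmt u) (fun i hi => hu _ (by omega))
        (by simpa using hbu)).rev le_rfl le_rfl
      refine hC (classified_forkDbl q (by omega) (hmt (p (b - 1))) (fun i hi => ?_) ?_ (by simpa [snocFun] using hd))
      · unfold snocFun
        split_ifs
        · intro h; have := hp.inj _ (by omega) _ (by omega) h; omega
        · exact (hu _ (by omega)).symm
      · simpa [snocFun, show b - 1 + 1 = b by omega] using (hp.adj (b - 1) (by omega)).symm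
    have hsimple : ∀ e < L, ¬Dbl T (p e) (p (e + 1)) := fun e he hd => by
      rcases Nat.lt_or_ge e b with h | h
      · exact hC (classified_forkDbl (hp.segment (a := e) (M := b + 1 - e) (by omega)) (by omega) (hmt u)
          (fun i hi => hu _ (by omega)) (by simpa [show e + (b + 1 - e - 1) = b by omega] using hbu) (by simpa using hd))
      · exact hC (classified_forkDbl (hp.rev (a := e + 1) (M := e + 2 - b) (by omega) (by omega)) (by omega) (hmt u)
          (fun i hi => hu _ (by omega)) (by simpa [show e + 1 - (e + 2 - b - 1) = b by omega] using hbu)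
          (by simpa using hd.symm))
    have hnb : ∀ i, 0 < i → i < L → ∀ j, Adj T (p i) j → j = p (i - 1) ∨ j = p (i + 1) ∨ (i = b ∧ j = u) := by
      intro i h0 h1 j hj
      by_cases hon : ∃ l ≤ L, p l = j
      · obtain ⟨l, hl, rfl⟩ := hon
        rcases Nat.lt_trichotomy l i with h | h | h
        · by_cases h' : l = i - 1
          · exact Or.inl (h' ▸ rfl)
          · exact absurd hj.symm (chord l i (by omega) h1.le)
        · exact absurd (h ▸ rfl) hj.1
        · by_cases h' : l = i + 1
          · exact Or.inr (Or.inl (h' ▸ rfl))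
          · exact absurd hj (chord i l (by omega) hl)
      · push Not at hon
        obtain ⟨rfl, rfl⟩ := honly j i hon h1.le hj
        exact Or.inr (Or.inr ⟨rfl, rfl⟩)
    have hl := linear_from_leaf hmt hp hL hstart b hbL (fun i hi => hsimple i (by omega)) fun i h0 h1 j hj => by
      rcases hnb i h0 (by omega) j hj with h | h | ⟨h, -⟩
      · exact Or.inl h
      · exact Or.inr h
      · omega
    have hrr := linear_from_leaf hmt hr hL (by simpa using hend) (L - b) (by omega)
      (fun i hi hd => hsimple (L - (i + 1)) (by omega) (by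
        rw [show L - (i + 1) + 1 = L - i by omega]; exact hd.symm)) fun i h0 h1 j hj => by
      rcases hnb (L - i) (by omega) (by omega) j hj with h | h | ⟨h, -⟩
      · exact Or.inr (by rwa [show L - (i + 1) = L - i - 1 by omega])
      · exact Or.inl (by rwa [show L - (i - 1) = L - i + 1 by omega])
      · omega
    have e0 := row_cc hmt u {p b} (by simpa using hbu.1.symm) (by simpa using humid)
    rw [sum_singleton, (eq_one_of_not_dbl hbu.symm hdbu).1, one_mul] at e0
    have e1 := row_cc hmt (p b) {p (b - 1), p (b + 1), u}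
      (by
        simp only [mem_insert, mem_singleton, not_or]
        exact ⟨fun h => by have := hp.inj _ hbL _ (by omega) h; omega, (hp.adj b hb1).1, hbu.1⟩)
      (fun j hj => by
        rcases hnb b hb0 hb1 j hj with h | h | ⟨-, h⟩ <;> simp [h])
    rw [sum_insert (by
        simp only [mem_insert, mem_singleton, not_or]
        exact ⟨fun h => by have := hp.inj _ (by omega) _ (by omega) h; omega, hu _ (by omega)⟩),
      sum_pair (hu _ (by omega)), (eq_one_of_not_dbl (hp.adj b hb1) (hsimple b hb1)).1,
      (eq_one_of_not_dbl hbu (fun h => hdbu h.symm)).1] at e1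
    have hc1 := (eq_one_of_not_dbl (hp.adj (b - 1) (by omega)) (hsimple (b - 1) (by omega))).2
    rw [show b - 1 + 1 = b by omega] at hc1
    rw [hc1] at e1
    have f1 := hl (b - 1) (by omega)
    have f2 := hl b le_rfl
    have f3 := hrr (L - b - 1) (by omega)
    have f4 := hrr (L - b) le_rfl
    simp only [Nat.sub_zero, show L - (L - b - 1) = b + 1 by omega, show L - (L - b) = b by omega] at f3 f4
    have hx := T.m_pos (p 0)
    have hy := T.m_pos (p L)
    obtain ⟨q, rfl⟩ : ∃ q, L = b + q := ⟨L - b, by omega⟩
    rw [show b + q - b = q by omega] at f3 f4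
    push_cast [Nat.cast_sub (show 1 ≤ b by omega), Nat.cast_sub (show 1 ≤ q by omega)] at f1 f2 f3 f4
    have key : (b : ℤ) * q = b + q + 3 := by
      have : (3 * ((b : ℤ) + 1) * (q + 1) - 2 * b * (q + 1) - 2 * q * (b + 1)) * (T.m (p 0) * T.m (p (b + q))) = 0 := by
        have h1 : ((b : ℤ) + 1) * T.m (p 0) = ((q : ℤ) + 1) * T.m (p (b + q)) := by linarith
        have h2 : 3 * ((b : ℤ) + 1) * T.m (p 0) = 2 * b * T.m (p 0) + 2 * q * T.m (p (b + q)) := by linarith
        linear_combination ((q : ℤ) + 1) * T.m (p (b + q)) * h2 - (2 * (q : ℤ) * T.m (p (b + q))) * h1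
      rcases mul_eq_zero.1 this with h | h
      · linarith
      · exact absurd h (mul_pos hx hy).ne'
    have hb2 : 2 ≤ b := by
      by_contra h
      obtain rfl : b = 1 := by omega
      push_cast at key
      linarith
    have hq2 : 2 ≤ q := by
      by_contra h
      obtain rfl : q = 1 := by omega
      push_cast at key
      linarith
    have hb5 : b ≤ 5 := by
      by_contra h
      have : (6 : ℤ) ≤ b := by omega
      nlinarith
    have hcases : (b = 2 ∧ q = 5) ∨ (b = 3 ∧ q = 3) ∨ (b = 5 ∧ q = 2) := by
      interval_cases b <;> norm_num at key <;> omega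
    rcases hcases with ⟨rfl, rfl⟩ | ⟨rfl, rfl⟩ | ⟨rfl, rfl⟩
    · obtain ⟨rfl, t⟩ := found_E8 hr (hmt u) (fun i hi => hu _ (by omega)) hbu
      exact hC (.E8 rfl t)
    · obtain ⟨rfl, t⟩ := found_E7 hp (hmt u) hu hbu
      exact hC (.E7 rfl t)
    · obtain ⟨rfl, t⟩ := found_E8 hp (hmt u) hu hbu
      exact hC (.E8 rfl t)
  · -- a path
    push Not at hoff
    have hnb : ∀ i, 0 < i → i < L → ∀ j, Adj T (p i) j → j = p (i - 1) ∨ j = p (i + 1) := by
      intro i h0 h1 j hj
      obtain ⟨l, hl, rfl⟩ := hoff j
      rcases Nat.lt_trichotomy l i with h | h | h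
      · by_cases h' : l = i - 1
        · exact Or.inl (h' ▸ rfl)
        · exact absurd hj.symm (chord l i (by omega) h1.le)
      · exact absurd (h ▸ rfl) hj.1
      · by_cases h' : l = i + 1
        · exact Or.inr (h' ▸ rfl)
        · exact absurd hj (chord i l (by omega) hl)
    by_cases hd : ∃ e < L, Dbl T (p e) (p (e + 1))
    · obtain ⟨e, he, hd⟩ := hd
      have huniq : ∀ e' < L, Dbl T (p e') (p (e' + 1)) → e' = e := by
        intro e' he' hd'
        by_contra hne
        rcases lt_or_gt_of_ne hne with h | h
        · exact hC (classified_twoDbl (hp.segment (a := e') (M := e - e' + 1) (by omega)) (by omega)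
            (by simpa using hd') (by simpa [show e' + (e - e' + 1) = e + 1 by omega, show e' + (e - e') = e by omega] using hd))
        · exact hC (classified_twoDbl (hp.segment (a := e) (M := e' - e + 1) (by omega)) (by omega)
            (by simpa using hd) (by simpa [show e + (e' - e + 1) = e' + 1 by omega, show e + (e' - e) = e' by omega] using hd'))
      have hc := hp.adj e he
      have hp1 := hc.one_le
      have hp2 := hc.symm.one_le
      have hprod : cc T (p e) (p (e + 1)) * cc T (p (e + 1)) (p e) = 2 := by
        have hlt : cc T (p e) (p (e + 1)) * cc T (p (e + 1)) (p e) < 4 := not_le.1 fun h =>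
          hC (classified_pair (hmt _) (hmt _) hc h)
        have h3 : ¬(3 ≤ cc T (p e) (p (e + 1)) ∨ 3 ≤ cc T (p (e + 1)) (p e)) := fun h => by
          rcases Nat.eq_zero_or_pos e with rfl | h0
          · exact hC (classified_triple (hp.rev (a := 2) (M := 2) hL2 le_rfl) (Or.symm (by simpa using h)))
          · exact hC (classified_triple (hp.segment (a := e - 1) (M := 2) (by omega))
              (by simpa [show e - 1 + 1 = e by omega, show e - 1 + 2 = e + 1 by omega] using h))
        push Not at h3
        unfold Dbl at hd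
        rcases hd with h | h
        · rw [show cc T (p e) (p (e + 1)) = 2 by omega] at hlt ⊢
          omega
        · rw [show cc T (p (e + 1)) (p e) = 2 by omega] at hlt ⊢
          omega
      have hl := linear_from_leaf hmt hp hL hstart e he.le (fun i hi h => absurd (huniq i (by omega) h) (by omega))
        fun i h0 h1 => hnb i h0 (by omega)
      have hrr := linear_from_leaf hmt hr hL (by simpa using hend) (L - e - 1) (by omega)
        (fun i hi h => absurd (huniq (L - (i + 1)) (by omega) (by
          rw [show L - (i + 1) + 1 = L - i by omega]; exact h.symm)) (by omega))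
        fun i h0 h1 j hj => by
          rcases hnb (L - i) (by omega) (by omega) j hj with h | h
          · exact Or.inr (by rwa [show L - (i + 1) = L - i - 1 by omega])
          · exact Or.inl (by rwa [show L - (i - 1) = L - i + 1 by omega])
      have hx := T.m_pos (p 0)
      have hy := T.m_pos (p L)
      obtain ⟨q, rfl⟩ : ∃ q, L = e + 1 + q := ⟨L - e - 1, by omega⟩
      have f2 := hl e le_rfl
      have f4 := hrr q (by omega)
      simp only [show e + 1 + q - q = e + 1 by omega, Nat.sub_zero] at f4
      have e1 : ((e : ℤ) + 2) * T.m (p 0) = cc T (p e) (p (e + 1)) * (((q : ℤ) + 1) * T.m (p (e + 1 + q))) := by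
        rcases Nat.eq_zero_or_pos e with rfl | h0
        · have := row_cc hmt (p 0) {p 1} (by simpa using (hp.adj 0 (by omega)).1) (by simpa using hstart)
          rw [sum_singleton] at this
          simp only [Nat.zero_add] at f4 ⊢
          rw [← f4]
          push_cast
          linarith
        · have hne : p (e - 1) ≠ p (e + 1) := fun h => by
            have := hp.inj _ (by omega) _ (by omega) h; omega
          have := row_cc hmt (p e) {p (e - 1), p (e + 1)}
            (by
              simp only [mem_insert, mem_singleton, not_or]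
              exact ⟨fun h => by have := hp.inj _ (by omega) _ (by omega) h; omega, hc.1⟩)
            (fun j hj => by simpa using hnb e h0 (by omega) j hj)
          have hadj := hp.adj (e - 1) (by omega)
          have hnd : ¬Dbl T (p (e - 1)) (p (e - 1 + 1)) := fun h => absurd (huniq _ (by omega) h) (by omega)
          have hone := (eq_one_of_not_dbl hadj hnd).2
          rw [show e - 1 + 1 = e by omega] at hone
          rw [sum_pair hne, hone, f2, f4, hl (e - 1) (by omega)] at this
          push_cast [Nat.cast_sub (show 1 ≤ e by omega)] at this ⊢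
          linarith
      have e2 : ((q : ℤ) + 2) * T.m (p (e + 1 + q)) = cc T (p (e + 1)) (p e) * (((e : ℤ) + 1) * T.m (p 0)) := by
        rcases Nat.eq_zero_or_pos q with rfl | h0
        · have := row_cc hmt (p (e + 1)) {p e} (by simpa using hc.1.symm) (by simpa using hend)
          rw [sum_singleton] at this
          rw [← f2]
          push_cast at *
          linarith
        · have hne : p e ≠ p (e + 2) := fun h => by
            have := hp.inj _ (by omega) _ (by omega) h; omega
          have := row_cc hmt (p (e + 1)) {p e, p (e + 2)}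
            (by
              simp only [mem_insert, mem_singleton, not_or]
              exact ⟨hc.1.symm, (hp.adj (e + 1) (by omega)).1⟩)
            (fun j hj => by simpa using hnb (e + 1) (by omega) (by omega) j hj)
          have hnd : ¬Dbl T (p (e + 1)) (p (e + 1 + 1)) := fun h => absurd (huniq _ (by omega) h) (by omega)
          have g := hrr (q - 1) (by omega)
          simp only [show e + 1 + q - (q - 1) = e + 2 by omega, Nat.sub_zero] at g
          rw [sum_pair hne, (eq_one_of_not_dbl (hp.adj (e + 1) (by omega)) hnd).1, f2, f4, g] at this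
          push_cast [Nat.cast_sub (show 1 ≤ q by omega)] at this ⊢
          linarith
      have key : ((e : ℤ) + 2) * ((q : ℤ) + 2) = 2 * ((e : ℤ) + 1) * ((q : ℤ) + 1) := by
        refine mul_right_cancel₀ (mul_pos hx hy).ne' ?_
        calc ((e : ℤ) + 2) * ((q : ℤ) + 2) * (T.m (p 0) * T.m (p (e + 1 + q)))
            = (((e : ℤ) + 2) * T.m (p 0)) * (((q : ℤ) + 2) * T.m (p (e + 1 + q))) := by ring
          _ = (cc T (p e) (p (e + 1)) * cc T (p (e + 1)) (p e)) * (((e : ℤ) + 1) * ((q : ℤ) + 1)) *
              (T.m (p 0) * T.m (p (e + 1 + q))) := by rw [e1, e2]; ring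
          _ = _ := by rw [hprod]; ring
      have he2 : e ≤ 2 := by
        by_contra h
        rcases Nat.eq_zero_or_pos q with rfl | h0
        · push_cast at key; linarith
        · have : (3 : ℤ) ≤ e := by omega
          have : (1 : ℤ) ≤ q := by omega
          nlinarith
      have hcases : (e = 1 ∧ q = 2) ∨ (e = 2 ∧ q = 1) := by
        interval_cases e <;> norm_num at key <;> omega
      rcases hcases with ⟨rfl, rfl⟩ | ⟨rfl, rfl⟩
      · rcases found_F4 hr (Or.symm hd) with ⟨rfl, t⟩ | ⟨rfl, t⟩
        · exact hC (.F4a rfl t)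
        · exact hC (.F4b rfl t)
      · rcases found_F4 hp hd with ⟨rfl, t⟩ | ⟨rfl, t⟩
        · exact hC (.F4a rfl t)
        · exact hC (.F4b rfl t)
    · push Not at hd
      have hl := linear_from_leaf hmt hp hL hstart L le_rfl hd hnb
      have := row_cc hmt (p L) {p (L - 1)}
        (by simp only [mem_singleton]; exact fun h => by have := hp.inj _ le_rfl _ (by omega) h; omega)
        (by simpa using hend)
      have hone := (eq_one_of_not_dbl (hp.adj (L - 1) (by omega)) (hd (L - 1) (by omega))).2
      rw [show L - 1 + 1 = L by omega] at hone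
      rw [sum_singleton, hone, hl (L - 1) (by omega), hl L le_rfl] at this
      push_cast [Nat.cast_sub (show 1 ≤ L by omega)] at this
      nlinarith [T.m_pos (p 0)]

end Main

/-- A minimal numerical type of genus one on at least two indices is one of the affine tables. -/
theorem classified_of_genus_one (hmin : T.IsMinimal) (hn : 1 < n) (hg : T.genus = 1) :
    (∀ i, T.IsMinusTwo i) ∧ Classified T :=
  ⟨isMinusTwo_of_genus_eq_one hmin hn hg, classified_of_isMinusTwo (isMinusTwo_of_genus_eq_one hmin hn hg) hn⟩

end Groth.Agent.NumTypeLib
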