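import Groth.Agent.NumTypeLib.Kernel
import Mathlib.LinearAlgebra.Dimension.Finrank
import Mathlib.LinearAlgebra.Dimension.RankNullity
import Mathlib.LinearAlgebra.Dimension.Localization
import Mathlib.LinearAlgebra.Dimension.DivisionRing
import Mathlib.LinearAlgebra.FiniteDimensional.Lemmas
import Mathlib.FieldTheory.Finiteness
import Mathlib.Algebra.Module.Torsion.Basic

/-!
# Cokernels of connected null matrices
-/

open Finset Matrix

namespace Groth.Agent.NumTypeLib

open Models

variable {n : ℕ} {A : Matrix (Fin n) (Fin n) ℤ} {m : Fin n → ℤ} (h : IsNull A m)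

include h in
theorem IsNull.finrank_ker (hn : 0 < n) : Module.finrank ℤ (LinearMap.ker A.mulVecLin) = 1 := by
  let i₀ : Fin n := ⟨0, hn⟩
  let f : LinearMap.ker A.mulVecLin →ₗ[ℤ] ℤ := (LinearMap.proj i₀).comp (LinearMap.ker A.mulVecLin).subtype
  have hf : Function.Injective f := by
    rw [injective_iff_map_eq_zero]
    rintro ⟨x, hx⟩ h0
    refine Subtype.ext (funext fun i => ?_)
    have h1 := h.proportional (LinearMap.mem_ker.1 hx) i i₀
    rw [show x i₀ = 0 from h0, zero_mul, mul_eq_zero] at h1
    exact h1.resolve_right (h.pos i₀).ne'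
  refine le_antisymm ((LinearMap.finrank_le_finrank_of_injective hf).trans_eq (Module.finrank_self ℤ)) ?_
  rw [Nat.succ_le_iff, Module.finrank_pos_iff_exists_ne_zero]
  exact ⟨⟨m, LinearMap.mem_ker.2 h.mulVec_eq⟩, fun hz => (h.pos i₀).ne' (congrFun (congrArg Subtype.val hz) i₀)⟩

include h in
theorem IsNull.finrank_coker (hn : 0 < n) {B : Matrix (Fin n) (Fin n) ℤ}
    (hB : ∀ x, B *ᵥ x = 0 ↔ A *ᵥ x = 0) :
    Module.finrank ℤ ((Fin n → ℤ) ⧸ LinearMap.range B.mulVecLin) = 1 := by
  have h1 := Submodule.finrank_quotient_add_finrank (LinearMap.ker B.mulVecLin)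
  rw [B.mulVecLin.quotKerEquivRange.finrank_eq] at h1
  have h2 := Submodule.finrank_quotient_add_finrank (LinearMap.range B.mulVecLin)
  have h3 : LinearMap.ker B.mulVecLin = LinearMap.ker A.mulVecLin := by
    ext x; simpa using hB x
  rw [h3, h.finrank_ker hn] at h1
  omega

section ModL

variable {F : Type*} [Field F] (a : Matrix (Fin n) (Fin n) F) (μ : Fin n → F) (E : Finset (Fin n × Fin n))

/-- The divergence of a flow. -/
def divergence : (E → F) →ₗ[F] (Fin n → F) where
  toFun f v := ∑ e : E, f e * ((if e.1.1 = v then 1 else 0) - if e.1.2 = v then 1 else 0)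
  map_add' f g := funext fun v => by simp [add_mul, Finset.sum_add_distrib]
  map_smul' c f := funext fun v => by simp [Finset.mul_sum, mul_assoc]

theorem finrank_ker_divergence (hn : 0 < n)
    (hconn : ∀ I : Finset (Fin n), I.Nonempty → I ≠ univ → ∃ i ∈ I, ∃ j ∉ I, (i, j) ∈ E ∨ (j, i) ∈ E) :
    Module.finrank F (LinearMap.ker (divergence (F := F) E)) + n ≤ E.card + 1 := by
  classical
  let v₀ : Fin n := ⟨0, hn⟩
  let S := LinearMap.range (divergence (F := F) E) ⊔ Submodule.span F {Pi.single v₀ (1 : F)}
  have hE : ∀ e ∈ E, (Pi.single e.1 (1 : F) - Pi.single e.2 1 : Fin n → F) ∈ S := fun e he => by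
    refine Submodule.mem_sup_left ⟨Pi.single ⟨e, he⟩ 1, funext fun v => ?_⟩
    simp [divergence, Pi.single_apply, Finset.sum_ite_eq', eq_comm]
  have hall : ∀ v, (Pi.single v (1 : F) : Fin n → F) ∈ S := by
    refine forall_of_adj (A := fun i j => if (i, j) ∈ E ∨ (j, i) ∈ E then (1 : ℤ) else 0)
      (fun I h1 h2 => by
        obtain ⟨i, hi, j, hj, hij⟩ := hconn I h1 h2
        exact ⟨i, hi, j, hj, by simp [hij]⟩) (fun v => (Pi.single v (1 : F) : Fin n → F) ∈ S) v₀
      (Submodule.mem_sup_right (Submodule.mem_span_singleton_self _)) fun i j hi hij => ?_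
    simp only [ne_eq, ite_eq_right_iff, not_forall] at hij
    rcases hij.1 with hij | hij
    · simpa using S.sub_mem hi (hE _ hij)
    · simpa using S.add_mem (hE _ hij) hi
  have htop : S = ⊤ := by
    rw [eq_top_iff]
    intro x _
    rw [pi_eq_sum_univ x]
    refine S.sum_mem fun v _ => S.smul_mem _ ?_
    convert hall v using 1
    funext j
    simp [Pi.single_apply, eq_comm]
  have h1 := Submodule.finrank_sup_add_finrank_inf_eq (LinearMap.range (divergence (F := F) E))
    (Submodule.span F {Pi.single v₀ (1 : F)})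
  have h2 := finrank_span_singleton (K := F) (v := (Pi.single v₀ (1 : F) : Fin n → F)) (by simp)
  have h3 := (divergence (F := F) E).finrank_range_add_finrank_ker
  rw [Module.finrank_pi, Fintype.card_coe] at h3
  rw [show LinearMap.range (divergence (F := F) E) ⊔ Submodule.span F {Pi.single v₀ (1 : F)} = ⊤ from htop,
    finrank_top, Module.finrank_pi, Fintype.card_fin, h2] at h1
  omega

theorem finrank_ker_le (hn : 0 < n) (hsymm : a.IsSymm) (hμ : ∀ i, μ i ≠ 0) (haμ : a *ᵥ μ = 0)
    (hE : ∀ e ∈ E, e.1 < e.2 ∧ a e.1 e.2 ≠ 0) (hE' : ∀ i j, i < j → a i j ≠ 0 → (i, j) ∈ E)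
    (hconn : ∀ I : Finset (Fin n), I.Nonempty → I ≠ univ → ∃ i ∈ I, ∃ j ∉ I, (i, j) ∈ E ∨ (j, i) ∈ E) :
    Module.finrank F (LinearMap.ker a.mulVecLin) + n ≤ E.card + 2 := by
  classical
  let g : (Fin n → F) → Fin n → Fin n → F := fun x i j => a i j * μ i * μ j * (x j / μ j - x i / μ i)
  have hg : ∀ x i j, g x i j = a i j * (x j * μ i - x i * μ j) := fun x i j => by
    simp only [g]
    field_simp [hμ i, hμ j]
  let Φ : LinearMap.ker a.mulVecLin →ₗ[F] (E → F) :=
    { toFun := fun x e => a e.1.1 e.1.2 * (x.1 e.1.2 * μ e.1.1 - x.1 e.1.1 * μ e.1.2)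
      map_add' := fun x y => funext fun e => by
        simp only [Submodule.coe_add, Pi.add_apply]; ring
      map_smul' := fun c x => funext fun e => by
        simp only [Submodule.coe_smul, Pi.smul_apply, smul_eq_mul, RingHom.id_apply]; ring }
  have hflow : LinearMap.range Φ ≤ LinearMap.ker (divergence (F := F) E) := by
    rintro _ ⟨⟨x, hx⟩, rfl⟩
    refine LinearMap.mem_ker.2 (funext fun v => ?_)
    show ∑ e : E, a e.1.1 e.1.2 * (x e.1.2 * μ e.1.1 - x e.1.1 * μ e.1.2) *
      ((if e.1.1 = v then 1 else 0) - if e.1.2 = v then 1 else 0) = 0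
    rw [Finset.sum_coe_sort E (fun e => a e.1 e.2 * (x e.2 * μ e.1 - x e.1 * μ e.2) *
      ((if e.1 = v then 1 else 0) - if e.2 = v then 1 else 0))]
    have hE2 : E = univ.filter fun e : Fin n × Fin n => e.1 < e.2 ∧ a e.1 e.2 ≠ 0 := by
      ext ⟨i, j⟩
      simpa using ⟨fun he => hE _ he, fun he => hE' i j he.1 he.2⟩
    rw [hE2, Finset.sum_filter, Fintype.sum_prod_type]
    simp only [← hg, mul_sub, mul_ite, mul_one, mul_zero]
    have hdrop : ∀ i j, (if i < j ∧ a i j ≠ 0 then
        ((if i = v then g x i j else 0) - if j = v then g x i j else 0) else 0) =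
        (if i = v then (if i < j then g x i j else 0) else 0) +
          if j = v then (if i < j then g x j i else 0) else 0 := by
      intro i j
      have hneg : g x j i = -g x i j := by rw [hg, hg, hsymm.apply]; ring
      by_cases h0 : a i j = 0
      · simp [hg, h0, hsymm.apply j i ▸ h0]
      · simp only [ne_eq, h0, not_false_eq_true, and_true, hneg]
        split_ifs <;> ring
    calc _ = ∑ i, ∑ j, ((if i = v then (if i < j then g x i j else 0) else 0) +
          if j = v then (if i < j then g x j i else 0) else 0) := by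
          refine Finset.sum_congr rfl fun i _ => Finset.sum_congr rfl fun j _ => ?_
          rw [← hdrop]
      _ = ∑ j, g x v j := by
          simp only [Finset.sum_add_distrib]
          rw [Finset.sum_comm, ← Finset.sum_add_distrib]
          conv_rhs => rw [← Finset.sum_congr rfl fun j _ => show (if v < j then g x v j else 0) +
            (if j < v then g x v j else 0) = g x v j by
              rcases lt_trichotomy v j with h | rfl | h
              · simp [h, h.not_gt]
              · simp [g]
              · simp [h, h.not_gt]]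
          rw [Finset.sum_add_distrib, Finset.sum_add_distrib]
          simp [Finset.sum_ite_eq']
      _ = 0 := by
          have h1 : ∑ j, a v j * x j = 0 := congrFun (LinearMap.mem_ker.1 hx) v
          have h2 : ∑ j, a v j * μ j = 0 := congrFun haμ v
          rw [show ∑ j, g x v j = μ v * ∑ j, a v j * x j - x v * ∑ j, a v j * μ j by
            rw [Finset.mul_sum, Finset.mul_sum, ← Finset.sum_sub_distrib]
            exact Finset.sum_congr rfl fun j _ => by rw [hg]; ring, h1, h2]
          ring
  have hker : Module.finrank F (LinearMap.ker Φ) ≤ 1 := by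
    let f : LinearMap.ker Φ →ₗ[F] F :=
      ((LinearMap.proj (⟨0, hn⟩ : Fin n)).comp (LinearMap.ker a.mulVecLin).subtype).comp (LinearMap.ker Φ).subtype
    have hf : Function.Injective f := by
      rw [injective_iff_map_eq_zero]
      rintro ⟨⟨x, hx⟩, hΦ⟩ h0
      refine Subtype.ext (Subtype.ext (funext fun i => ?_))
      refine forall_of_adj (A := fun i j => if (i, j) ∈ E ∨ (j, i) ∈ E then (1 : ℤ) else 0)
        (fun I h1 h2 => by
          obtain ⟨i, hi, j, hj, hij⟩ := hconn I h1 h2
          exact ⟨i, hi, j, hj, by simp [hij]⟩) (fun i => x i = 0) ⟨0, hn⟩ h0 (fun i j hi hij => ?_) i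
      simp only [ne_eq, ite_eq_right_iff, not_forall] at hij
      rcases hij.1 with he | he
      · have := congrFun (LinearMap.mem_ker.1 hΦ) ⟨_, he⟩
        change a i j * (x j * μ i - x i * μ j) = 0 at this
        simpa [hi, (hE _ he).2, hμ i] using this
      · have := congrFun (LinearMap.mem_ker.1 hΦ) ⟨_, he⟩
        change a j i * (x i * μ j - x j * μ i) = 0 at this
        simpa [hi, (hE _ he).2, hμ i] using this
    exact (LinearMap.finrank_le_finrank_of_injective hf).trans_eq (Module.finrank_self F)
  have h1 := Φ.finrank_range_add_finrank_ker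
  have h2 := Submodule.finrank_mono hflow
  have h3 := finrank_ker_divergence (F := F) E hn hconn
  omega

end ModL

end Groth.Agent.NumTypeLib
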