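import Groth.Agent.NumTypeLib.Families

/-!
# Affine configurations found along paths
-/

open Finset

namespace Groth.Agent.NumTypeLib

open Models

variable {n : ℕ}

/-- Adjacency. -/
def Adj (T : NumericalType n) (i j : Fin n) : Prop := i ≠ j ∧ T.a i j ≠ 0

variable {T : NumericalType n}

theorem Adj.symm {i j : Fin n} (h : Adj T i j) : Adj T j i := ⟨h.1.symm, a_comm T i j ▸ h.2⟩

theorem Adj.one_le {i j : Fin n} (h : Adj T i j) : 1 ≤ cc T i j := one_le_cc h.1 h.2

theorem adj_of_ne {i j : Fin n} (hi : T.IsMinusTwo i) (h : T.a i j ≠ 0) (hij : i ≠ j) : Adj T i j := ⟨hij, h⟩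

/-- A path of `(-2)`-indices with `L` edges. -/
structure IsPath (T : NumericalType n) (p : ℕ → Fin n) (L : ℕ) : Prop where
  isMinusTwo : ∀ i ≤ L, T.IsMinusTwo (p i)
  inj : ∀ i ≤ L, ∀ j ≤ L, p i = p j → i = j
  adj : ∀ i < L, Adj T (p i) (p (i + 1))

variable {p : ℕ → Fin n} {L : ℕ}

theorem IsPath.segment (hp : IsPath T p L) {a M : ℕ} (h : a + M ≤ L) : IsPath T (fun i => p (a + i)) M where
  isMinusTwo i hi := hp.isMinusTwo _ (by omega)
  inj i hi j hj e := by have := hp.inj _ (by omega) _ (by omega) e; omega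
  adj i hi := hp.adj _ (by omega)

theorem IsPath.rev (hp : IsPath T p L) {a M : ℕ} (ha : a ≤ L) (h : M ≤ a) : IsPath T (fun i => p (a - i)) M where
  isMinusTwo i hi := hp.isMinusTwo _ (by omega)
  inj i hi j hj e := by have := hp.inj _ (by omega) _ (by omega) e; omega
  adj i hi := by
    have := (hp.adj (a - (i + 1)) (by omega)).symm
    rwa [show a - (i + 1) + 1 = a - i by omega] at this

/-- The conclusion: the configuration is everything, and `T` is the table. -/
def Found (T : NumericalType n) (k : ℕ) (F : Tab) : Prop := k = n ∧ HasTab T F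

theorem found_of_le {k : ℕ} {F : Tab} (hF : F.IsAffine k) (f : ℕ → Fin n)
    (hinj : ∀ i < k, ∀ j < k, f i = f j → i = j) (hv : ∀ i < k, T.IsMinusTwo (f i))
    (hle : ∀ i j, i < j → j < k → F.A i j ≠ 0 →
      F.A i j ≤ F.ω i * cc T (f i) (f j) ∧ F.A i j ≤ F.ω j * cc T (f j) (f i))
    (hk : 0 < k) (hb : ∃ b < k, F.δ b = 1) (hc : ∃ c < k, F.ω c = 1) : Found T k F :=
  hasTab_of_dom hk (hF.dom ⟨fun i : Fin k => f i, fun i j e => Fin.ext (hinj _ i.isLt _ j.isLt e)⟩
    (fun j => hv _ j.isLt) fun i j hij h => hle i j hij j.isLt h) hb hc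

theorem found_cyc (hp : IsPath T p L) (hL : 2 ≤ L) (hclose : Adj T (p L) (p 0)) :
    Found T (L + 1) (Tab.cyc (L + 1)) := by
  refine found_of_le (Tab.isAffine_cyc (by omega)) p (fun i hi j hj => hp.inj i (by omega) j (by omega))
    (fun i hi => hp.isMinusTwo i (by omega)) (fun i j hij hjk hA => ?_) (by omega)
    ⟨0, by omega, rfl⟩ ⟨0, by omega, rfl⟩
  simp only [Tab.cyc, ite_ne_right_iff] at hA
  rw [show (Tab.cyc (L + 1)).A i j = 1 from if_pos hA.1]
  simp only [Tab.cyc, one_mul]
  rcases hA.1 with rfl | ⟨rfl, h⟩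
  · exact ⟨(hp.adj i (by omega)).one_le, (hp.adj i (by omega)).symm.one_le⟩
  · obtain rfl : j = L := by omega
    exact ⟨hclose.symm.one_le, hclose.one_le⟩

theorem found_upUp (hp : IsPath T p L) (hL : 2 ≤ L) (h0 : 2 ≤ cc T (p 0) (p 1))
    (h1 : 2 ≤ cc T (p (L - 1)) (p L)) : Found T (L + 1) (Tab.upUp (L + 1)) := by
  refine found_of_le (Tab.isAffine_upUp (by omega)) p (fun i hi j hj => hp.inj i (by omega) j (by omega))
    (fun i hi => hp.isMinusTwo i (by omega)) (fun i j hij hjk hA => ?_) (by omega)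
    ⟨L, by omega, by simp [Tab.upUp]⟩ ⟨0, by omega, by simp [Tab.upUp]⟩
  simp only [Tab.upUp, ite_ne_right_iff] at hA ⊢
  obtain ⟨rfl, -⟩ := hA
  have a1 := (hp.adj i (by omega)).one_le
  have a2 := (hp.adj i (by omega)).symm.one_le
  rcases eq_or_ne (i + 1) L with h | h
  · obtain rfl : i = L - 1 := by omega
    rw [h] at a1 a2 ⊢
    (repeat' split) <;> omega
  · rcases eq_or_ne i 0 with rfl | h'
    · rw [zero_add] at a1 a2 ⊢
      (repeat' split) <;> omega
    · (repeat' split) <;> omega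

theorem found_upDown (hp : IsPath T p L) (hL : 2 ≤ L) (h0 : 2 ≤ cc T (p 0) (p 1))
    (h1 : 2 ≤ cc T (p L) (p (L - 1))) : Found T (L + 1) (Tab.upDown (L + 1)) := by
  refine found_of_le (Tab.isAffine_upDown (by omega)) p (fun i hi j hj => hp.inj i (by omega) j (by omega))
    (fun i hi => hp.isMinusTwo i (by omega)) (fun i j hij hjk hA => ?_) (by omega)
    ⟨0, by omega, rfl⟩ ⟨0, by omega, by simp [Tab.upDown]⟩
  simp only [Tab.upDown, ite_ne_right_iff] at hA ⊢
  obtain ⟨rfl, -⟩ := hA
  have a1 := (hp.adj i (by omega)).one_le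
  have a2 := (hp.adj i (by omega)).symm.one_le
  rcases eq_or_ne (i + 1) L with h | h
  · obtain rfl : i = L - 1 := by omega
    rw [h] at a1 a2 ⊢
    (repeat' split) <;> omega
  · rcases eq_or_ne i 0 with rfl | h'
    · rw [zero_add] at a1 a2 ⊢
      (repeat' split) <;> omega
    · (repeat' split) <;> omega

theorem found_downUp (hp : IsPath T p L) (hL : 2 ≤ L) (h0 : 2 ≤ cc T (p 1) (p 0))
    (h1 : 2 ≤ cc T (p (L - 1)) (p L)) : Found T (L + 1) (Tab.downUp (L + 1)) := by
  refine found_of_le (Tab.isAffine_downUp (by omega)) p (fun i hi j hj => hp.inj i (by omega) j (by omega))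
    (fun i hi => hp.isMinusTwo i (by omega)) (fun i j hij hjk hA => ?_) (by omega)
    ⟨0, by omega, rfl⟩ ⟨1, by omega, by simp [Tab.downUp]; omega⟩
  simp only [Tab.downUp, ite_ne_right_iff] at hA ⊢
  obtain ⟨rfl, -⟩ := hA
  have a1 := (hp.adj i (by omega)).one_le
  have a2 := (hp.adj i (by omega)).symm.one_le
  rcases eq_or_ne (i + 1) L with h | h
  · obtain rfl : i = L - 1 := by omega
    rw [h] at a1 a2 ⊢
    (repeat' split) <;> omega
  · rcases eq_or_ne i 0 with rfl | h'
    · rw [zero_add] at a1 a2 ⊢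
      (repeat' split) <;> omega
    · (repeat' split) <;> omega

/-- A path with a leaf attached to its last but one index. -/
def forkFun (p : ℕ → Fin n) (L : ℕ) (u : Fin n) (i : ℕ) : Fin n := if i ≤ L then p i else u

theorem forkFun_le {u : Fin n} {i : ℕ} (h : i ≤ L) : forkFun p L u i = p i := if_pos h
theorem forkFun_last {u : Fin n} : forkFun p L u (L + 1) = u := if_neg (by omega)

theorem forkFun_inj (hp : IsPath T p L) {u : Fin n} (hne : ∀ i ≤ L, p i ≠ u) :
    ∀ i < L + 2, ∀ j < L + 2, forkFun p L u i = forkFun p L u j → i = j := by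
  intro i hi j hj e
  by_cases h1 : i ≤ L <;> by_cases h2 : j ≤ L <;> simp only [forkFun, h1, h2, if_true, if_false] at e
  · exact hp.inj i h1 j h2 e
  · exact absurd e (hne i h1)
  · exact absurd e.symm (hne j h2)
  · omega

theorem forkFun_minusTwo (hp : IsPath T p L) {u : Fin n} (hu : T.IsMinusTwo u) (i : ℕ) :
    T.IsMinusTwo (forkFun p L u i) := by
  unfold forkFun
  split_ifs with h
  · exact hp.isMinusTwo i h
  · exact hu

theorem found_forkUp (hp : IsPath T p L) (hL : 2 ≤ L) {u : Fin n} (hu : T.IsMinusTwo u) (hne : ∀ i ≤ L, p i ≠ u)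
    (hadj : Adj T (p (L - 1)) u) (h0 : 2 ≤ cc T (p 1) (p 0)) : Found T (L + 2) (Tab.forkUp (L + 2)) := by
  refine found_of_le (Tab.isAffine_forkUp (by omega)) (forkFun p L u) (forkFun_inj hp hne)
    (fun i _ => forkFun_minusTwo hp hu i) (fun i j hij hjk hA => ?_) (by omega)
    ⟨0, by omega, rfl⟩ ⟨1, by omega, rfl⟩
  simp only [Tab.forkUp] at hA ⊢
  rcases eq_or_ne j (L + 1) with rfl | hj
  · rcases eq_or_ne i (L - 1) with rfl | hi
    · rw [forkFun_last, forkFun_le (by omega)]
      have := hadj.one_le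
      have := hadj.symm.one_le
      (repeat' split) <;> omega
    · (repeat' split at hA) <;> omega
  · rcases eq_or_ne j (i + 1) with rfl | hj'
    · rw [forkFun_le (by omega), forkFun_le (by omega)]
      have a1 := (hp.adj i (by omega)).one_le
      have a2 := (hp.adj i (by omega)).symm.one_le
      rcases eq_or_ne i 0 with rfl | h'
      · rw [zero_add] at a1 a2 ⊢
        (repeat' split) <;> omega
      · (repeat' split) <;> omega
    · (repeat' split at hA) <;> omega

theorem found_forkDown (hp : IsPath T p L) (hL : 2 ≤ L) {u : Fin n} (hu : T.IsMinusTwo u) (hne : ∀ i ≤ L, p i ≠ u)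
    (hadj : Adj T (p (L - 1)) u) (h0 : 2 ≤ cc T (p 0) (p 1)) : Found T (L + 2) (Tab.forkDown (L + 2)) := by
  refine found_of_le (Tab.isAffine_forkDown (by omega)) (forkFun p L u) (forkFun_inj hp hne)
    (fun i _ => forkFun_minusTwo hp hu i) (fun i j hij hjk hA => ?_) (by omega)
    ⟨L + 1, by omega, by simp [Tab.forkDown]⟩ ⟨0, by omega, rfl⟩
  simp only [Tab.forkDown] at hA ⊢
  rcases eq_or_ne j (L + 1) with rfl | hj
  · rcases eq_or_ne i (L - 1) with rfl | hi
    · rw [forkFun_last, forkFun_le (by omega)]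
      have := hadj.one_le
      have := hadj.symm.one_le
      (repeat' split) <;> omega
    · (repeat' split at hA) <;> omega
  · rcases eq_or_ne j (i + 1) with rfl | hj'
    · rw [forkFun_le (by omega), forkFun_le (by omega)]
      have a1 := (hp.adj i (by omega)).one_le
      have a2 := (hp.adj i (by omega)).symm.one_le
      rcases eq_or_ne i 0 with rfl | h'
      · rw [zero_add] at a1 a2 ⊢
        (repeat' split) <;> omega
      · (repeat' split) <;> omega
    · (repeat' split at hA) <;> omega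

/-- A path with leaves attached to its second and last but one indices. -/
def forkForkFun (p : ℕ → Fin n) (L : ℕ) (u u' : Fin n) (i : ℕ) : Fin n :=
  if i = 0 then p 0 else if i = 1 then u else if i ≤ L + 1 then p (i - 1) else u'

theorem found_forkFork (hp : IsPath T p L) (hL : 2 ≤ L) {u u' : Fin n} (hu : T.IsMinusTwo u) (hu' : T.IsMinusTwo u')
    (hne : ∀ i ≤ L, p i ≠ u ∧ p i ≠ u') (huu : u ≠ u') (hadj : Adj T (p 1) u) (hadj' : Adj T (p (L - 1)) u') :
    Found T (L + 3) (Tab.forkFork (L + 3)) := by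
  refine found_of_le (Tab.isAffine_forkFork (by omega)) (forkForkFun p L u u') (fun i hi j hj e => ?_)
    (fun i hi => ?_) (fun i j hij hjk hA => ?_) (by omega) ⟨0, by omega, rfl⟩ ⟨0, by omega, rfl⟩
  · simp only [forkForkFun] at e
    (repeat' split at e) <;> first
      | omega
      | exact absurd e (hne _ (by omega)).1
      | exact absurd e (hne _ (by omega)).2
      | exact absurd e.symm (hne _ (by omega)).1
      | exact absurd e.symm (hne _ (by omega)).2
      | exact absurd e huu
      | exact absurd e.symm huu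
      | (have := hp.inj _ (by omega) _ (by omega) e; omega)
  · simp only [forkForkFun]
    (repeat' split) <;> first | exact hu | exact hu' | exact hp.isMinusTwo _ (by omega)
  · simp only [Tab.forkFork, ite_ne_right_iff] at hA
    simp only [Tab.forkFork, if_pos hA.1, one_mul]
    rcases hA.1 with ⟨rfl, rfl⟩ | ⟨rfl, rfl⟩ | ⟨rfl, h2, h3⟩ | ⟨h1, h2⟩
    · simp only [forkForkFun, if_pos, show (2 : ℕ) ≠ 0 by omega, show (2 : ℕ) ≠ 1 by omega, if_false, show 2 ≤ L + 1 by omega]
      exact ⟨(hp.adj 0 (by omega)).one_le, (hp.adj 0 (by omega)).symm.one_le⟩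
    · simp only [forkForkFun, if_pos, show (2 : ℕ) ≠ 0 by omega, show (2 : ℕ) ≠ 1 by omega, show (1 : ℕ) ≠ 0 by omega,
        if_false, show 2 ≤ L + 1 by omega]
      exact ⟨hadj.symm.one_le, hadj.one_le⟩
    · simp (disch := omega) only [forkForkFun, if_pos, if_neg]
      have := hp.adj (i - 1) (by omega)
      rw [show i - 1 + 1 = i + 1 - 1 by omega] at this
      exact ⟨this.one_le, this.symm.one_le⟩
    · obtain rfl : i = L := by omega
      simp (disch := omega) only [forkForkFun, if_pos, if_neg]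
      exact ⟨hadj'.one_le, hadj'.symm.one_le⟩

/-- Extract a statement about a listed table's entries. -/
theorem forall_entries {k : ℕ} {F : Tab} {P : ℕ → ℕ → Prop}
    (h : ∀ j < k, ∀ i < j, F.A i j ≠ 0 → P i j) : ∀ i j, i < j → j < k → F.A i j ≠ 0 → P i j :=
  fun i j hij hjk => h j hjk i hij

theorem found_F4 (hp : IsPath T p 4) (h : 2 ≤ cc T (p 2) (p 3) ∨ 2 ≤ cc T (p 3) (p 2)) :
    Found T 5 Tab.F4a ∨ Found T 5 Tab.F4b := by
  have a : ∀ i < 4, 1 ≤ cc T (p i) (p (i + 1)) ∧ 1 ≤ cc T (p (i + 1)) (p i) :=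
    fun i hi => ⟨(hp.adj i hi).one_le, (hp.adj i hi).symm.one_le⟩
  have a0 := a 0 (by omega); have a1 := a 1 (by omega); have a2 := a 2 (by omega); have a3 := a 3 (by omega)
  norm_num at a0 a1 a2 a3
  rcases h with h | h
  · left
    refine found_of_le Tab.isAffine_F4a p (fun i hi j hj => hp.inj i (by omega) j (by omega))
      (fun i hi => hp.isMinusTwo i (by omega)) (forall_entries fun j hj i hij hA => ?_) (by omega)
      ⟨0, by omega, rfl⟩ ⟨0, by omega, rfl⟩
    interval_cases j <;> interval_cases i <;> simp [Tab.F4a, Tab.ofList] at hA ⊢ <;> omega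
  · right
    refine found_of_le Tab.isAffine_F4b p (fun i hi j hj => hp.inj i (by omega) j (by omega))
      (fun i hi => hp.isMinusTwo i (by omega)) (forall_entries fun j hj i hij hA => ?_) (by omega)
      ⟨0, by omega, rfl⟩ ⟨3, by omega, rfl⟩
    interval_cases j <;> interval_cases i <;> simp [Tab.F4b, Tab.ofList] at hA ⊢ <;> omega

theorem found_G2 (hp : IsPath T p 2) (h : 3 ≤ cc T (p 1) (p 2) ∨ 3 ≤ cc T (p 2) (p 1)) :
    Found T 3 Tab.G2a ∨ Found T 3 Tab.G2b := by
  have a : ∀ i < 2, 1 ≤ cc T (p i) (p (i + 1)) ∧ 1 ≤ cc T (p (i + 1)) (p i) :=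
    fun i hi => ⟨(hp.adj i hi).one_le, (hp.adj i hi).symm.one_le⟩
  have a0 := a 0 (by omega); have a1 := a 1 (by omega)
  norm_num at a0 a1
  rcases h with h | h
  · left
    refine found_of_le Tab.isAffine_G2a p (fun i hi j hj => hp.inj i (by omega) j (by omega))
      (fun i hi => hp.isMinusTwo i (by omega)) (forall_entries fun j hj i hij hA => ?_) (by omega)
      ⟨0, by omega, rfl⟩ ⟨0, by omega, rfl⟩
    interval_cases j <;> interval_cases i <;> simp [Tab.G2a, Tab.ofList] at hA ⊢ <;> omega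
  · right
    refine found_of_le Tab.isAffine_G2b p (fun i hi j hj => hp.inj i (by omega) j (by omega))
      (fun i hi => hp.isMinusTwo i (by omega)) (forall_entries fun j hj i hij hA => ?_) (by omega)
      ⟨0, by omega, rfl⟩ ⟨2, by omega, rfl⟩
    interval_cases j <;> interval_cases i <;> simp [Tab.G2b, Tab.ofList] at hA ⊢ <;> omega

end Groth.Agent.NumTypeLib
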