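import Groth.Agent.NumTypeLib.Config

/-!
# The exceptional configurations, and two indices
-/

open Finset

namespace Groth.Agent.NumTypeLib

open Models

variable {n : ℕ} {T : NumericalType n} {p : ℕ → Fin n}

/-- The order of the indices of completed `E₆`: a path of five with an arm of two at its middle. -/
def e6Fun (p : ℕ → Fin n) (u u' : Fin n) : ℕ → Fin n
  | 0 => p 0 | 1 => p 1 | 2 => p 2 | 3 => p 4 | 4 => p 3 | 5 => u' | _ => u

theorem found_E6 (hp : IsPath T p 4) {u u' : Fin n} (hu : T.IsMinusTwo u) (hu' : T.IsMinusTwo u')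
    (hne : ∀ i ≤ 4, p i ≠ u ∧ p i ≠ u') (huu : Adj T u u') (hadj : Adj T (p 2) u) : Found T 7 Tab.E6 := by
  refine found_of_le Tab.isAffine_E6 (e6Fun p u u') (fun i hi j hj e => ?_) (fun i hi => ?_)
    (forall_entries fun j hj i hij hA => ?_) (by omega) ⟨0, by omega, rfl⟩ ⟨0, by omega, rfl⟩
  · interval_cases i <;> interval_cases j <;> simp only [e6Fun] at e ⊢ <;> first
      | rfl
      | exact absurd e (hne _ (by omega)).1
      | exact absurd e (hne _ (by omega)).2
      | exact absurd e.symm (hne _ (by omega)).1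
      | exact absurd e.symm (hne _ (by omega)).2
      | exact absurd e huu.1
      | exact absurd e.symm huu.1
      | (have := hp.inj _ (by omega) _ (by omega) e; omega)
  · interval_cases i <;> simp only [e6Fun] <;> first | exact hu | exact hu' | exact hp.isMinusTwo _ (by omega)
  · interval_cases j <;> interval_cases i <;> simp [Tab.E6, Tab.ofList] at hA ⊢ <;> simp only [e6Fun] <;> first
      | exact ⟨(hp.adj _ (by omega)).one_le, (hp.adj _ (by omega)).symm.one_le⟩
      | exact ⟨(hp.adj _ (by omega)).symm.one_le, (hp.adj _ (by omega)).one_le⟩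
      | exact ⟨huu.one_le, huu.symm.one_le⟩
      | exact ⟨huu.symm.one_le, huu.one_le⟩
      | exact ⟨hadj.one_le, hadj.symm.one_le⟩

theorem found_E7 (hp : IsPath T p 6) {u : Fin n} (hu : T.IsMinusTwo u) (hne : ∀ i ≤ 6, p i ≠ u)
    (hadj : Adj T (p 3) u) : Found T 8 Tab.E7 := by
  refine found_of_le Tab.isAffine_E7 (forkFun p 6 u) (forkFun_inj hp hne) (fun i _ => forkFun_minusTwo hp hu i)
    (forall_entries fun j hj i hij hA => ?_) (by omega) ⟨0, by omega, rfl⟩ ⟨0, by omega, rfl⟩
  interval_cases j <;> interval_cases i <;> simp [Tab.E7, Tab.ofList] at hA ⊢ <;> simp [forkFun] <;> first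
    | exact ⟨(hp.adj _ (by omega)).one_le, (hp.adj _ (by omega)).symm.one_le⟩
    | exact ⟨hadj.one_le, hadj.symm.one_le⟩

theorem found_E8 (hp : IsPath T p 7) {u : Fin n} (hu : T.IsMinusTwo u) (hne : ∀ i ≤ 7, p i ≠ u)
    (hadj : Adj T (p 5) u) : Found T 9 Tab.E8 := by
  refine found_of_le Tab.isAffine_E8 (forkFun p 7 u) (forkFun_inj hp hne) (fun i _ => forkFun_minusTwo hp hu i)
    (forall_entries fun j hj i hij hA => ?_) (by omega) ⟨0, by omega, rfl⟩ ⟨0, by omega, rfl⟩
  interval_cases j <;> interval_cases i <;> simp [Tab.E8, Tab.ofList] at hA ⊢ <;> simp [forkFun] <;> first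
    | exact ⟨(hp.adj _ (by omega)).one_le, (hp.adj _ (by omega)).symm.one_le⟩
    | exact ⟨hadj.one_le, hadj.symm.one_le⟩

theorem found_pair_A11 {a b : Fin n} (ha : T.IsMinusTwo a) (hb : T.IsMinusTwo b) (hab : a ≠ b)
    (h1 : 2 ≤ cc T a b) (h2 : 2 ≤ cc T b a) : Found T 2 Tab.A11 := by
  refine found_of_le Tab.isAffine_A11 (fun i => if i = 0 then a else b) (fun i hi j hj e => ?_) (fun i hi => ?_)
    (forall_entries fun j hj i hij hA => ?_) (by omega) ⟨0, by omega, rfl⟩ ⟨0, by omega, rfl⟩
  · interval_cases i <;> interval_cases j <;> simp at e ⊢ <;> first | exact hab e | exact hab e.symm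
  · interval_cases i <;> simp <;> assumption
  · interval_cases j <;> interval_cases i
    simp [Tab.A11, Tab.ofList]
    exact ⟨h1, h2⟩

theorem found_pair_A22 {a b : Fin n} (ha : T.IsMinusTwo a) (hb : T.IsMinusTwo b) (hab : a ≠ b)
    (h1 : 4 ≤ cc T a b) (h2 : 1 ≤ cc T b a) : Found T 2 Tab.A22 := by
  refine found_of_le Tab.isAffine_A22 (fun i => if i = 0 then a else b) (fun i hi j hj e => ?_) (fun i hi => ?_)
    (forall_entries fun j hj i hij hA => ?_) (by omega) ⟨1, by omega, rfl⟩ ⟨0, by omega, rfl⟩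
  · interval_cases i <;> interval_cases j <;> simp at e ⊢ <;> first | exact hab e | exact hab e.symm
  · interval_cases i <;> simp <;> assumption
  · interval_cases j <;> interval_cases i
    simp [Tab.A22, Tab.ofList]
    omega

/-- An edge of product at least four. -/
theorem found_pair {a b : Fin n} (ha : T.IsMinusTwo a) (hb : T.IsMinusTwo b) (hab : Adj T a b)
    (h : 4 ≤ cc T a b * cc T b a) : Found T 2 Tab.A11 ∨ Found T 2 Tab.A22 := by
  have h1 := hab.one_le
  have h2 := hab.symm.one_le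
  by_cases h1' : 4 ≤ cc T a b
  · exact Or.inr (found_pair_A22 ha hb hab.1 h1' h2)
  by_cases h2' : 4 ≤ cc T b a
  · exact Or.inr (found_pair_A22 hb ha hab.symm.1 h2' h1)
  have h3 : 2 ≤ cc T a b := by nlinarith
  have h4 : 2 ≤ cc T b a := by nlinarith
  exact Or.inl (found_pair_A11 ha hb hab.1 h3 h4)

end Groth.Agent.NumTypeLib
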