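import Groth.Agent.NumTypeLib.Core
import Mathlib.Algebra.BigOperators.Fin
import Mathlib.Data.Fintype.Basic
import Mathlib.RingTheory.Int.Basic

/-!
# Contraction of a `(-1)`-index
-/

open Finset

namespace Groth.Agent.NumTypeLib

open Models

variable {n : ℕ} (T : NumericalType (n + 1))

/-- `a i l` for the last index `l`. -/
def bb (i : Fin n) : ℤ := T.a i.castSucc (Fin.last n)

/-- `a i l / w l`. -/
def ee (i : Fin n) : ℤ := bb T i / T.w (Fin.last n)

theorem w_mul_ee (i : Fin n) : T.w (Fin.last n) * ee T i = bb T i := Int.mul_ediv_cancel' (w_dvd_right T _ _)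

theorem bb_nonneg (i : Fin n) : 0 ≤ bb T i := a_nonneg T i.castSucc_lt_last.ne

theorem ee_nonneg (i : Fin n) : 0 ≤ ee T i := Int.ediv_nonneg (bb_nonneg T i) (T.w_pos _).le

/-- The halved weight. -/
def ww (i : Fin n) : ℤ :=
  if 2 ∣ ee T i ∧ ¬2 ∣ bb T i / T.w i.castSucc then T.w i.castSucc / 2 else T.w i.castSucc

/-- The factor `w i / w' i`. -/
def kk (i : Fin n) : ℤ := if 2 ∣ ee T i ∧ ¬2 ∣ bb T i / T.w i.castSucc then 2 else 1

theorem even_w_of_halved (i : Fin n) (h : 2 ∣ ee T i ∧ ¬2 ∣ bb T i / T.w i.castSucc) : 2 ∣ T.w i.castSucc := by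
  have h1 : 2 ∣ T.w i.castSucc * (bb T i / T.w i.castSucc) := by
    rw [Int.mul_ediv_cancel' (show T.w i.castSucc ∣ bb T i from T.w_dvd _ _), ← w_mul_ee]
    exact h.1.mul_left _
  exact ((Prime.dvd_or_dvd Int.prime_two) h1).resolve_right h.2

theorem kk_mul_ww (i : Fin n) : kk T i * ww T i = T.w i.castSucc := by
  unfold kk ww
  split_ifs with h
  · exact Int.mul_ediv_cancel' (even_w_of_halved T i h)
  · rw [one_mul]

theorem ww_pos (i : Fin n) : 0 < ww T i := by
  have h := kk_mul_ww T i
  have hw := T.w_pos i.castSucc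
  have hk : 0 < kk T i := by unfold kk; split_ifs <;> omega
  nlinarith

theorem ww_dvd (i : Fin n) : ww T i ∣ T.w i.castSucc := ⟨kk T i, by rw [mul_comm, kk_mul_ww]⟩

theorem exists_cc' (i : Fin n) :
    ∃ c, 0 ≤ c ∧ bb T i ^ 2 - T.w (Fin.last n) * bb T i = 2 * ww T i * T.w (Fin.last n) * c ∧
      0 ≤ kk T i * (T.g i.castSucc - 1) + 1 + c := by
  set f := bb T i / T.w i.castSucc with hf
  have hb : T.w i.castSucc * f = bb T i := Int.mul_ediv_cancel' (T.w_dvd _ _)
  have hX : bb T i ^ 2 - T.w (Fin.last n) * bb T i = T.w (Fin.last n) * (T.w i.castSucc * f * (ee T i - 1)) := by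
    rw [hb, ← w_mul_ee]; ring
  have he := ee_nonneg T i
  have hf0 : 0 ≤ f := Int.ediv_nonneg (bb_nonneg T i) (T.w_pos _).le
  have hg := T.g_nonneg i.castSucc
  have hk := kk_mul_ww T i
  have hwl := T.w_pos (Fin.last n)
  have hwi := T.w_pos i.castSucc
  have hsign : 0 ≤ f * (ee T i - 1) := by
    rcases eq_or_lt_of_le he with h0 | h0
    · have : bb T i = 0 := by rw [← w_mul_ee, ← h0, mul_zero]
      rw [hf, this]; simp
    · exact mul_nonneg hf0 (by omega)
  by_cases h : 2 ∣ ee T i ∧ ¬2 ∣ f
  · have hk2 : kk T i = 2 := if_pos h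
    rw [hk2] at hk
    refine ⟨f * (ee T i - 1), hsign, ?_, ?_⟩
    · rw [hX, ← hk]; ring
    · rw [hk2]
      have h1 : 1 ≤ f := by
        rcases eq_or_lt_of_le hf0 with h0 | h0
        · exact absurd (h0 ▸ dvd_zero 2) h.2
        · omega
      have h2 : 2 ≤ ee T i := by
        rcases eq_or_lt_of_le he with h0 | h0
        · exfalso
          rw [← w_mul_ee, ← h0, mul_zero] at hb
          nlinarith
        · obtain ⟨c, hc⟩ := h.1
          omega
      nlinarith
  · have hk1 : kk T i = 1 := if_neg h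
    rw [hk1, one_mul] at hk
    have h2 : 2 ∣ f * (ee T i - 1) := by
      rcases Int.emod_two_eq (ee T i) with he2 | he2
      · exact (not_not.1 fun h' => h ⟨by omega, h'⟩ : 2 ∣ f).mul_right _
      · exact (show 2 ∣ ee T i - 1 by omega).mul_left _
    obtain ⟨c, hc⟩ := h2
    refine ⟨c, by omega, ?_, by rw [hk1]; omega⟩
    rw [hX, ← hk, mul_assoc (ww T i), hc]
    ring

variable (h : T.IsMinusOne (Fin.last n))

include h in
theorem one_le_of_isMinusOne : 0 < n := by
  by_contra hn
  obtain rfl : n = 0 := by omega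
  have := row_eq T (Fin.last 0)
  rw [Fin.sum_univ_one] at this
  have h2 := h.2
  have := T.w_pos (Fin.last 0)
  have := T.m_pos (Fin.last 0)
  simp only [Fin.last_zero] at *
  nlinarith

include h in
theorem a'_eq (i j : Fin n) :
    T.a i.castSucc j.castSucc - T.a i.castSucc (Fin.last n) * T.a j.castSucc (Fin.last n) / T.a (Fin.last n) (Fin.last n) =
      T.a i.castSucc j.castSucc + T.w (Fin.last n) * (ee T i * ee T j) := by
  rw [h.2, Int.ediv_neg, sub_neg_eq_add,
    show T.a i.castSucc (Fin.last n) * T.a j.castSucc (Fin.last n) =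
      T.w (Fin.last n) * (T.w (Fin.last n) * (ee T i * ee T j)) by
        rw [show T.a i.castSucc (Fin.last n) = bb T i from rfl, show T.a j.castSucc (Fin.last n) = bb T j from rfl,
          ← w_mul_ee T i, ← w_mul_ee T j]; ring,
    Int.mul_ediv_cancel_left _ (T.w_pos _).ne']

include h in
theorem sum_bb : ∑ j, bb T j * T.m j.castSucc = T.w (Fin.last n) * T.m (Fin.last n) := by
  have := row_eq T (Fin.last n)
  rw [Fin.sum_univ_castSucc, h.2] at this
  rw [show ∑ j, bb T j * T.m j.castSucc = ∑ j : Fin n, T.a (Fin.last n) j.castSucc * T.m j.castSucc from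
    Finset.sum_congr rfl fun j _ => by rw [a_comm]; rfl]
  linarith

/-- The contracted numerical type. -/
def contraction : NumericalType n where
  m i := T.m i.castSucc
  a := Matrix.of fun i j => T.a i.castSucc j.castSucc + T.w (Fin.last n) * (ee T i * ee T j)
  w i := ww T i
  g i := T.w i.castSucc / ww T i * (T.g i.castSucc - 1) + 1 +
    (bb T i ^ 2 - T.w (Fin.last n) * bb T i) / (2 * ww T i * T.w (Fin.last n))
  pos := one_le_of_isMinusOne T h
  m_pos i := T.m_pos _
  w_pos i := ww_pos T i
  g_nonneg i := by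
    obtain ⟨c, -, hc, hc'⟩ := exists_cc' T i
    have hw := ww_pos T i
    have hwl := T.w_pos (Fin.last n)
    rw [hc, Int.mul_ediv_cancel_left _ (by positivity), ← kk_mul_ww, Int.mul_ediv_cancel _ hw.ne']
    exact hc'
  symm := by
    ext i j
    simp only [Matrix.transpose_apply, Matrix.of_apply, a_comm T j.castSucc, mul_comm (ee T j)]
  offDiag_nonneg i j hij := add_nonneg (a_nonneg T fun e => hij (Fin.castSucc_inj.1 e))
    (mul_nonneg (T.w_pos _).le (mul_nonneg (ee_nonneg T i) (ee_nonneg T j)))
  connected I hI hI' := by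
    have hpos : ∀ i, T.a i.castSucc (Fin.last n) ≠ 0 → 0 < ee T i := fun i hi => by
      refine lt_of_le_of_ne (ee_nonneg T i) fun e => hi ?_
      rw [show T.a i.castSucc (Fin.last n) = bb T i from rfl, ← w_mul_ee, ← e, mul_zero]
    have key : ∀ i j, i ≠ j → T.a i.castSucc j.castSucc ≠ 0 →
        T.a i.castSucc j.castSucc + T.w (Fin.last n) * (ee T i * ee T j) ≠ 0 := fun i j hij h0 => by
      have := a_pos T (fun e => hij (Fin.castSucc_inj.1 e)) h0
      have := mul_nonneg (T.w_pos (Fin.last n)).le (mul_nonneg (ee_nonneg T i) (ee_nonneg T j))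
      omega
    obtain ⟨i, hi, j, hj, hij⟩ := T.connected (I.map Fin.castSuccEmb) (hI.map) fun e => by
      have := e ▸ mem_univ (Fin.last n)
      simp at this
    obtain ⟨i, hiI, rfl⟩ := mem_map.1 hi
    induction j using Fin.lastCases with
    | cast j =>
      have hjI : j ∉ I := fun h => hj (mem_map_of_mem _ h)
      exact ⟨i, hiI, j, hjI, key i j (fun e => hjI (e ▸ hiI)) hij⟩
    | last =>
      obtain ⟨i', hi', j', hj', hij'⟩ := T.connected (insert (Fin.last n) (I.map Fin.castSuccEmb))
        (insert_nonempty _ _) fun e => hI' (eq_univ_iff_forall.2 fun x => by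
          have := e ▸ mem_univ x.castSucc
          simpa [x.castSucc_lt_last.ne] using this)
      induction j' using Fin.lastCases with
      | last => exact absurd (mem_insert_self _ _) hj'
      | cast j' =>
        have hjI : j' ∉ I := fun h => hj' (mem_insert_of_mem (mem_map_of_mem _ h))
        rcases mem_insert.1 hi' with rfl | hi'
        · refine ⟨i, hiI, j', hjI, ?_⟩
          have h1 := a_nonneg T (i := i.castSucc) (j := j'.castSucc) fun e => hjI (Fin.castSucc_inj.1 e ▸ hiI)
          have h2 := mul_pos (T.w_pos (Fin.last n)) (mul_pos (hpos i hij) (hpos j' (a_comm T _ _ ▸ hij')))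
          show T.a i.castSucc j'.castSucc + _ ≠ 0
          omega
        · obtain ⟨i', hi'I, rfl⟩ := mem_map.1 hi'
          exact ⟨i', hi'I, j', hjI, key i' j' (fun e => hjI (e ▸ hi'I)) hij'⟩
  mulVec_m := funext fun i => by
    have h1 := row_eq T i.castSucc
    rw [Fin.sum_univ_castSucc] at h1
    have h2 := sum_bb T h
    simp only [Matrix.mulVec, dotProduct, Matrix.of_apply, Pi.zero_apply, add_mul, Finset.sum_add_distrib]
    rw [show ∑ j, T.w (Fin.last n) * (ee T i * ee T j) * T.m j.castSucc = ee T i * ∑ j, bb T j * T.m j.castSucc by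
      rw [Finset.mul_sum]; exact Finset.sum_congr rfl fun j _ => by rw [← w_mul_ee T j]; ring, h2,
      ← mul_assoc (ee T i), mul_comm (ee T i), w_mul_ee]
    exact h1
  w_dvd i j := by
    simp only [Matrix.of_apply]
    refine dvd_add ((ww_dvd T i).trans (T.w_dvd _ _)) ?_
    rw [← mul_assoc, w_mul_ee]
    exact ((ww_dvd T i).trans (T.w_dvd _ _)).mul_right _

include h in
theorem isContraction_contraction : T.IsContraction (contraction T h) :=
  ⟨fun _ => rfl, fun i j => (a'_eq T h i j).symm, fun _ => rfl, fun _ => rfl⟩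

include h in
theorem genus_of_isContraction {T' : NumericalType n} (hT' : T.IsContraction T') : T'.genus = T.genus := by
  obtain ⟨hm, ha, hw, hg⟩ := hT'
  have key : ∀ i, contrib T' i = contrib T i.castSucc - bb T i * T.m i.castSucc := fun i => by
    obtain ⟨c, -, hc, -⟩ := exists_cc' T i
    have hw' : T'.w i = ww T i := hw i
    have hwl := T.w_pos (Fin.last n)
    have hg' : T'.g i = kk T i * (T.g i.castSucc - 1) + 1 + c := by
      rw [hg, hw', show T.a i.castSucc (Fin.last n) = bb T i from rfl, hc,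
        Int.mul_ediv_cancel_left _ (by have := ww_pos T i; positivity), ← kk_mul_ww,
        Int.mul_ediv_cancel _ (ww_pos T i).ne']
    have hc2 : ee T i * bb T i - bb T i = 2 * ww T i * c := by
      refine mul_left_cancel₀ hwl.ne' ?_
      linear_combination hc + bb T i * w_mul_ee T i
    rw [contrib, contrib, hm, hw', hg', (ha i i).trans (a'_eq T h i i)]
    linear_combination T.m i.castSucc * (2 * (T.g i.castSucc - 1)) * kk_mul_ww T i - T.m i.castSucc * hc2
      - T.m i.castSucc * ee T i * w_mul_ee T i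
  have h1 := sum_contrib T'
  have h2 := sum_contrib T
  simp only [key, Finset.sum_sub_distrib, sum_bb T h] at h1
  rw [Fin.sum_univ_castSucc] at h2
  have h3 : contrib T (Fin.last n) = -(T.w (Fin.last n) * T.m (Fin.last n)) := by
    rw [contrib, h.1, h.2]; ring
  linarith

end Groth.Agent.NumTypeLib
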