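import Groth.Prelude.Def_Models
import Mathlib.Data.ZMod.Basic
import Mathlib.Tactic.Linarith
import Mathlib.Tactic.LinearCombination
import Mathlib.Tactic.Ring

/-!
# Elementary facts about numerical types
-/

open Finset

namespace Groth.Agent.NumTypeLib

open Models

theorem two_dvd_sum_sub_diag : ∀ {n : ℕ} (f : Fin n → Fin n → ℤ), (∀ i j, f i j = f j i) →
    (2 : ℤ) ∣ (∑ i, ∑ j, f i j) - ∑ i, f i i
  | 0, _, _ => by simp
  | n + 1, f, h => by
    obtain ⟨c, hc⟩ := two_dvd_sum_sub_diag (fun i j => f i.succ j.succ) fun _ _ => h _ _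
    refine ⟨c + ∑ i : Fin n, f 0 i.succ, ?_⟩
    simp only [Fin.sum_univ_succ, Finset.sum_add_distrib, fun i : Fin n => h i.succ 0] at hc ⊢
    linarith

variable {n : ℕ} (T : NumericalType n)

theorem a_comm (i j : Fin n) : T.a i j = T.a j i := T.symm.apply j i

theorem a_nonneg {i j : Fin n} (h : i ≠ j) : 0 ≤ T.a i j := T.offDiag_nonneg i j h

theorem a_pos {i j : Fin n} (h : i ≠ j) (h' : T.a i j ≠ 0) : 0 < T.a i j :=
  lt_of_le_of_ne (a_nonneg T h) (Ne.symm h')

theorem w_dvd_right (i j : Fin n) : T.w j ∣ T.a i j := a_comm T j i ▸ T.w_dvd j i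

theorem w_le_a {i j : Fin n} (h : 0 < T.a i j) : T.w i ≤ T.a i j ∧ T.w j ≤ T.a i j :=
  ⟨Int.le_of_dvd h (T.w_dvd i j), Int.le_of_dvd h (w_dvd_right T i j)⟩

theorem row_eq (i : Fin n) : ∑ j, T.a i j * T.m j = 0 := congrFun T.mulVec_m i

theorem row_erase (i : Fin n) : ∑ j ∈ univ.erase i, T.a i j * T.m j = -(T.a i i * T.m i) := by
  have := row_eq T i
  rw [← Finset.add_sum_erase univ (fun j => T.a i j * T.m j) (mem_univ i)] at this
  linarith

theorem row_sum_le {i : Fin n} {S : Finset (Fin n)} (hS : i ∉ S) :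
    ∑ j ∈ S, T.a i j * T.m j ≤ -(T.a i i * T.m i) := by
  rw [← row_erase]
  refine Finset.sum_le_sum_of_subset_of_nonneg (fun j hj => ?_) fun j hj _ => ?_
  · exact mem_erase.2 ⟨fun h => hS (h ▸ hj), mem_univ _⟩
  · exact mul_nonneg (a_nonneg T (ne_of_mem_erase hj).symm) (T.m_pos j).le

theorem mul_le_neg_diag {i j : Fin n} (h : i ≠ j) : T.a i j * T.m j ≤ -(T.a i i * T.m i) := by
  simpa using row_sum_le T (S := {j}) (by simpa using h)

theorem sum_sum_eq_zero : ∑ i, ∑ j, T.m i * T.a i j * T.m j = 0 := by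
  refine Finset.sum_eq_zero fun i _ => ?_
  simp only [mul_assoc]
  rw [← Finset.mul_sum, row_eq, mul_zero]

theorem two_dvd_sum : (2 : ℤ) ∣ ∑ i, T.m i * T.a i i := by
  have h := two_dvd_sum_sub_diag (fun i j => T.m i * T.a i j * T.m j) fun i j => by
    show T.m i * T.a i j * T.m j = T.m j * T.a j i * T.m i
    rw [a_comm T j i]
    ring
  rw [sum_sum_eq_zero, zero_sub, dvd_neg] at h
  have h' : (2 : ℤ) ∣ ∑ i, (T.m i * T.a i i * T.m i - T.m i * T.a i i) := by
    refine Finset.dvd_sum fun i _ => ?_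
    rw [show T.m i * T.a i i * T.m i - T.m i * T.a i i = (T.m i * (T.m i - 1)) * T.a i i by ring]
    exact Dvd.dvd.mul_right (Int.even_mul_pred_self _).two_dvd _
  rw [Finset.sum_sub_distrib] at h'
  simpa using h.sub h'

theorem exists_adj (hn : 1 < n) (i : Fin n) : ∃ j, i ≠ j ∧ 0 < T.a i j := by
  obtain ⟨i', hi', j, hj, h⟩ := T.connected {i} (singleton_nonempty i) fun h => by
    have := congrArg Finset.card h
    rw [card_singleton, card_univ, Fintype.card_fin] at this
    omega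
  rw [mem_singleton] at hi' hj
  subst hi'
  exact ⟨j, fun e => hj e.symm, a_pos T (fun e => hj e.symm) h⟩

theorem diag_neg (hn : 1 < n) (i : Fin n) : T.a i i < 0 := by
  obtain ⟨j, hij, hj⟩ := exists_adj T hn i
  have := mul_le_neg_diag T hij
  have := T.m_pos i
  have := mul_pos hj (T.m_pos j)
  nlinarith

/-- Twice the contribution of an index to `genus - 1`. -/
def contrib (i : Fin n) : ℤ := T.m i * (2 * T.w i * (T.g i - 1) - T.a i i)

theorem sum_contrib : ∑ i, contrib T i = 2 * (T.genus - 1) := by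
  obtain ⟨c, hc⟩ := two_dvd_sum T
  rw [NumericalType.genus, hc, Int.mul_ediv_cancel_left _ two_ne_zero]
  simp only [contrib, mul_sub, Finset.sum_sub_distrib, hc]
  rw [show ∑ i, T.m i * (2 * T.w i * T.g i) - ∑ i, T.m i * (2 * T.w i * 1) =
      2 * ∑ i, T.m i * T.w i * (T.g i - 1) from ?_]
  · simp only [mul_sub, Finset.sum_sub_distrib]; ring
  · simp only [mul_sub, Finset.sum_sub_distrib, Finset.mul_sum]
    congr 1 <;> exact Finset.sum_congr rfl fun i _ => by ring

theorem exists_neg_diag (hn : 1 < n) (i : Fin n) : ∃ k, 0 < k ∧ T.a i i = -(k * T.w i) := by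
  obtain ⟨c, hc⟩ := T.w_dvd i i
  refine ⟨-c, ?_, by rw [hc]; ring⟩
  have := diag_neg T hn i
  have := T.w_pos i
  nlinarith

theorem isMinusOne_of_contrib_neg (hn : 1 < n) (i : Fin n) (h : contrib T i < 0) : T.IsMinusOne i := by
  obtain ⟨k, hk, ha⟩ := exists_neg_diag T hn i
  have hm := T.m_pos i
  have hw := T.w_pos i
  have hg := T.g_nonneg i
  have h' : 2 * (T.g i - 1) + k < 0 := by
    by_contra hh
    rw [contrib, ha] at h
    nlinarith [mul_nonneg (mul_nonneg hm.le hw.le) (not_lt.1 hh)]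
  obtain ⟨rfl, hg0⟩ : k = 1 ∧ T.g i = 0 := by omega
  exact ⟨hg0, by rw [ha, one_mul]⟩

theorem isMinusTwo_of_contrib_zero (hn : 1 < n) (i : Fin n) (h : contrib T i = 0) : T.IsMinusTwo i := by
  obtain ⟨k, hk, ha⟩ := exists_neg_diag T hn i
  have hm := T.m_pos i
  have hw := T.w_pos i
  have hg := T.g_nonneg i
  rw [contrib, ha, show T.m i * (2 * T.w i * (T.g i - 1) - -(k * T.w i)) = T.m i * T.w i * (2 * (T.g i - 1) + k) by ring,
    mul_eq_zero] at h
  have h' := h.resolve_left (mul_pos hm hw).ne'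
  obtain ⟨rfl, hg0⟩ : k = 2 ∧ T.g i = 0 := by omega
  exact ⟨hg0, by rw [ha]; ring⟩

variable {T}

theorem contrib_nonneg (hmin : T.IsMinimal) (hn : 1 < n) (i : Fin n) : 0 ≤ contrib T i :=
  not_lt.1 fun h => hmin i (isMinusOne_of_contrib_neg T hn i h)

theorem one_le_genus (hmin : T.IsMinimal) (hn : 1 < n) : 1 ≤ T.genus := by
  have := sum_contrib T
  have := Finset.sum_nonneg fun i (_ : i ∈ univ) => contrib_nonneg hmin hn i
  linarith

theorem contrib_le (hmin : T.IsMinimal) (hn : 1 < n) (i : Fin n) : contrib T i ≤ 2 * T.genus - 2 := by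
  have := sum_contrib T
  have := Finset.single_le_sum (fun j (_ : j ∈ univ) => contrib_nonneg hmin hn j) (mem_univ i)
  linarith

theorem isMinusTwo_of_genus_eq_one (hmin : T.IsMinimal) (hn : 1 < n) (hg : T.genus = 1) (i : Fin n) :
    T.IsMinusTwo i := by
  refine isMinusTwo_of_contrib_zero T hn i (le_antisymm ?_ (contrib_nonneg hmin hn i))
  have := contrib_le hmin hn i
  rw [hg] at this
  linarith

end Groth.Agent.NumTypeLib
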