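import Groth.Agent.NumTypeLib.Core

/-!
# The graph of a numerical type
-/

open Finset

namespace Groth.Agent.NumTypeLib

open Models

variable {n : ℕ} (T : NumericalType n)

/-- The neighbours of `i` inside `S`. -/
def nbrs (S : Finset (Fin n)) (i : Fin n) : Finset (Fin n) := S.filter fun j => i ≠ j ∧ 0 < T.a i j

theorem mem_nbrs {S : Finset (Fin n)} {i j : Fin n} : j ∈ nbrs T S i ↔ j ∈ S ∧ i ≠ j ∧ 0 < T.a i j := mem_filter

theorem mem_nbrs_comm {i j : Fin n} : (i ≠ j ∧ 0 < T.a i j) ↔ j ≠ i ∧ 0 < T.a j i := by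
  rw [ne_comm, a_comm T i j]

theorem sum_card_nbrs : ∑ i, (nbrs T univ i).card = 2 * T.edgeCount := by
  have h : ∀ i, (nbrs T univ i).card =
      (univ.filter fun j => i < j ∧ 0 < T.a i j).card + (univ.filter fun j => j < i ∧ 0 < T.a j i).card := by
    intro i
    rw [← card_union_of_disjoint (disjoint_filter.2 fun j _ h h' => lt_asymm h.1 h'.1)]
    congr 1
    ext j
    simp only [nbrs, mem_filter, mem_univ, true_and, mem_union, a_comm T j i, ← or_and_right]
    exact and_congr_left' ⟨lt_or_gt_of_ne, fun h => h.elim ne_of_lt ne_of_gt⟩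
  rw [Finset.sum_congr rfl fun i _ => h i, Finset.sum_add_distrib, two_mul, NumericalType.edgeCount]
  simp only [Finset.card_filter, Fintype.sum_prod_type]
  congr 1
  exact Finset.sum_comm

theorem nbrs_insert_of_mem {S : Finset (Fin n)} {i : Fin n} (hi : i ∉ S) (j : Fin n) :
    ((nbrs T (insert i S) j).card : ℤ) = (nbrs T S j).card + if j ≠ i ∧ 0 < T.a j i then 1 else 0 := by
  rw [nbrs, nbrs, filter_insert]
  split_ifs
  · rw [card_insert_of_notMem fun h => hi (mem_filter.1 h).1]
    push_cast; rfl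
  · simp

theorem nbrs_self_insert {S : Finset (Fin n)} {i : Fin n} : nbrs T (insert i S) i = nbrs T S i := by
  rw [nbrs, nbrs, filter_insert, if_neg (by simp)]

theorem deg_insert {S : Finset (Fin n)} {i : Fin n} (hi : i ∉ S) :
    ∑ j ∈ insert i S, ((nbrs T (insert i S) j).card : ℤ) =
      ∑ j ∈ S, ((nbrs T S j).card : ℤ) + 2 * (nbrs T S i).card := by
  rw [sum_insert hi, nbrs_self_insert, Finset.sum_congr rfl fun j _ => nbrs_insert_of_mem T hi j,
    Finset.sum_add_distrib, Finset.sum_boole]
  rw [show (S.filter fun j => j ≠ i ∧ 0 < T.a j i) = nbrs T S i from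
    filter_congr fun j _ => (mem_nbrs_comm T).symm]
  ring

theorem exists_connected_subset : ∀ k, 1 ≤ k → k ≤ n →
    ∃ S : Finset (Fin n), S.card = k ∧ 2 * ((k : ℤ) - 1) ≤ ∑ j ∈ S, ((nbrs T S j).card : ℤ)
  | 0, h, _ => absurd h (by omega)
  | 1, _, _ => ⟨{⟨0, T.pos⟩}, card_singleton _, by simp⟩
  | k + 2, _, h => by
    obtain ⟨S, hS, hd⟩ := exists_connected_subset (k + 1) (by omega) (by omega)
    obtain ⟨i, hi, j, hj, hij⟩ := T.connected S (card_pos.1 (by omega)) fun e => by
      rw [e, card_univ, Fintype.card_fin] at hS; omega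
    refine ⟨insert j S, by rw [card_insert_of_notMem hj, hS], ?_⟩
    rw [deg_insert T hj]
    have hne : j ≠ i := fun e => hj (e ▸ hi)
    have : 0 < (nbrs T S j).card :=
      card_pos.2 ⟨i, (mem_nbrs T).2 ⟨hi, hne, a_comm T i j ▸ a_pos T hne.symm hij⟩⟩
    push_cast at hd ⊢
    omega

theorem topGenus_nonneg : 0 ≤ T.topGenus := by
  obtain ⟨S, hS, hd⟩ := exists_connected_subset T n T.pos le_rfl
  obtain rfl : S = univ := eq_univ_of_card S (by rw [hS, Fintype.card_fin])
  rw [← Nat.cast_sum, sum_card_nbrs] at hd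
  rw [NumericalType.topGenus]
  push_cast at hd
  linarith

theorem mw_le_a_mul {i j : Fin n} (h : 0 < T.a i j) : T.w j * T.m j ≤ T.a i j * T.m j :=
  mul_le_mul_of_nonneg_right (w_le_a T h).2 (T.m_pos j).le

variable {T}

theorem sum_deg_sub_two_le (hmin : T.IsMinimal) (hn : 1 < n) (S : Finset (Fin n)) :
    ∑ j ∈ S, (((nbrs T S j).card : ℤ) - 2) ≤ ∑ i, contrib T i := by
  induction S using Finset.strongInduction with
  | H S ih =>
    by_cases h : ∃ i ∈ S, (nbrs T S i).card ≤ 1
    · obtain ⟨i, hi, hd⟩ := h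
      refine le_trans ?_ (ih _ (erase_ssubset hi))
      obtain ⟨S', hi', rfl⟩ : ∃ S', i ∉ S' ∧ S = insert i S' := ⟨S.erase i, notMem_erase _ _, (insert_erase hi).symm⟩
      rw [erase_insert hi', Finset.sum_sub_distrib, Finset.sum_sub_distrib, deg_insert T hi', sum_const, sum_const,
        card_insert_of_notMem hi']
      rw [nbrs_self_insert] at hd
      simp only [nsmul_eq_mul, Nat.cast_add, Nat.cast_one]
      linarith [(Nat.cast_le (α := ℤ)).2 hd]
    · push Not at h
      let M : Fin n → ℤ := fun i => T.w i * T.m i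
      calc ∑ j ∈ S, (((nbrs T S j).card : ℤ) - 2) ≤ ∑ j ∈ S, (((nbrs T S j).card : ℤ) - 2) * M j := by
            refine Finset.sum_le_sum fun j hj => le_mul_of_one_le_right ?_ ?_
            · have : 2 ≤ (nbrs T S j).card := h j hj
              omega
            · exact Int.add_one_le_iff.2 (mul_pos (T.w_pos j) (T.m_pos j))
        _ = ∑ i ∈ S, (∑ j ∈ nbrs T S i, M j - 2 * M i) := by
            simp only [sub_mul, Finset.sum_sub_distrib]
            congr 1
            have e : ∀ i, ((nbrs T S i).card : ℤ) * M i = ∑ j ∈ S, if i ≠ j ∧ 0 < T.a i j then M i else 0 := fun i => by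
              rw [← Finset.sum_filter, sum_const, nsmul_eq_mul]; rfl
            rw [Finset.sum_congr rfl fun i _ => e i, Finset.sum_comm]
            refine Finset.sum_congr rfl fun i _ => ?_
            rw [nbrs, Finset.sum_filter]
            exact Finset.sum_congr rfl fun j _ => by simp only [mem_nbrs_comm]
        _ ≤ ∑ i ∈ S, contrib T i := by
            refine Finset.sum_le_sum fun i _ => ?_
            have h1 : ∑ j ∈ nbrs T S i, M j ≤ ∑ j ∈ nbrs T S i, T.a i j * T.m j :=
              Finset.sum_le_sum fun j hj => mw_le_a_mul T ((mem_nbrs T).1 hj).2.2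
            have h2 : ∑ j ∈ nbrs T S i, T.a i j * T.m j ≤ -(T.a i i * T.m i) :=
              row_sum_le T fun hh => ((mem_nbrs T).1 hh).2.1 rfl
            have h3 : 0 ≤ 2 * (M i) * T.g i :=
              mul_nonneg (mul_nonneg two_pos.le (mul_pos (T.w_pos i) (T.m_pos i)).le) (T.g_nonneg i)
            have h4 : contrib T i = 2 * M i * T.g i - 2 * M i + -(T.a i i * T.m i) := by
              simp only [contrib, M]; ring
            linarith
        _ ≤ ∑ i, contrib T i := Finset.sum_le_sum_of_subset_of_nonneg (subset_univ S)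
            fun i _ _ => contrib_nonneg hmin hn i

theorem topGenus_le_genus (hmin : T.IsMinimal) (hn : 1 < n) : T.topGenus ≤ T.genus := by
  have h := sum_deg_sub_two_le hmin hn univ
  rw [sum_contrib, Finset.sum_sub_distrib, sum_const, card_univ, Fintype.card_fin, ← Nat.cast_sum, sum_card_nbrs,
    nsmul_eq_mul] at h
  rw [NumericalType.topGenus]
  push_cast at h
  linarith

end Groth.Agent.NumTypeLib
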