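import Groth.Agent.NumTypeLib.Table

/-!
# The affine tables
-/

open Finset

namespace Groth.Agent.NumTypeLib

namespace Tab

/-- The cycle. -/
def cyc (k : ℕ) : Tab where
  δ _ := 1
  ω _ := 1
  A i j := if j = i + 1 ∨ (i = 0 ∧ j + 1 = k) then 1 else 0

/-- The chain with weights `1, 2, …, 2, 4`. -/
def upUp (k : ℕ) : Tab where
  δ i := if i + 1 < k then 2 else 1
  ω i := if i = 0 then 1 else if i + 1 < k then 2 else 4
  A i j := if j = i + 1 then (if j + 1 < k then 2 else 4) else 0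

/-- The chain with weights `1, 2, …, 2, 1`. -/
def upDown (k : ℕ) : Tab where
  δ _ := 1
  ω i := if i = 0 then 1 else if i + 1 < k then 2 else 1
  A i j := if j = i + 1 then 2 else 0

/-- The chain with weights `2, 1, …, 1, 2`. -/
def downUp (k : ℕ) : Tab where
  δ i := if i = 0 then 1 else if i + 1 < k then 2 else 1
  ω i := if i = 0 then 2 else if i + 1 < k then 1 else 2
  A i j := if j = i + 1 then (if i = 0 ∨ j + 1 = k then 2 else 1) else 0

/-- The fork with the weights `2, 1, …, 1`. -/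
def forkUp (k : ℕ) : Tab where
  δ i := if i = 0 then 1 else if i + 2 < k then 2 else 1
  ω i := if i = 0 then 2 else 1
  A i j := if i = 0 ∧ j = 1 then 2 else
    if (j = i + 1 ∧ 1 ≤ i ∧ j + 2 ≤ k) ∨ (i + 3 = k ∧ j + 1 = k) then 1 else 0

/-- The fork with the weights `1, 2, …, 2`. -/
def forkDown (k : ℕ) : Tab where
  δ i := if i + 2 < k then 2 else 1
  ω i := if i = 0 then 1 else 2
  A i j := if (j = i + 1 ∧ j + 2 ≤ k) ∨ (i + 3 = k ∧ j + 1 = k) then 2 else 0

/-- The double fork. -/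
def forkFork (k : ℕ) : Tab where
  δ i := if i ≤ 1 then 1 else if i + 2 < k then 2 else 1
  ω _ := 1
  A i j := if (i = 0 ∧ j = 2) ∨ (i = 1 ∧ j = 2) ∨ (j = i + 1 ∧ 2 ≤ i ∧ j + 2 ≤ k) ∨
    (i + 3 = k ∧ j + 1 = k) then 1 else 0

/-- A table given by lists. -/
def ofList (δ ω : List ℤ) (E : List (ℕ × ℕ × ℤ)) : Tab where
  δ i := δ.getD i 1
  ω i := ω.getD i 1
  A i j := ((E.find? fun e => e.1 == i && e.2.1 == j).map fun e => e.2.2).getD 0

/-- Two indices, `Ã₁`. -/
def A11 : Tab := ofList [1, 1] [1, 1] [(0, 1, 2)]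
/-- Two indices, `A₂⁽²⁾`. -/
def A22 : Tab := ofList [2, 1] [1, 4] [(0, 1, 4)]
/-- `G₂` first form. -/
def G2a : Tab := ofList [1, 2, 1] [1, 1, 3] [(0, 1, 1), (1, 2, 3)]
/-- `G₂` second form. -/
def G2b : Tab := ofList [1, 2, 3] [3, 3, 1] [(0, 1, 3), (1, 2, 3)]
/-- `F₄` first form. -/
def F4a : Tab := ofList [1, 2, 3, 2, 1] [1, 1, 1, 2, 2] [(0, 1, 1), (1, 2, 1), (2, 3, 2), (3, 4, 2)]
/-- `F₄` second form. -/
def F4b : Tab := ofList [1, 2, 3, 4, 2] [2, 2, 2, 1, 1] [(0, 1, 2), (1, 2, 2), (2, 3, 2), (3, 4, 1)]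
/-- Completed `E₆`. -/
def E6 : Tab := ofList [1, 2, 3, 1, 2, 1, 2] [] [(0, 1, 1), (1, 2, 1), (2, 4, 1), (3, 4, 1), (2, 6, 1), (5, 6, 1)]
/-- Completed `E₇`. -/
def E7 : Tab := ofList [1, 2, 3, 4, 3, 2, 1, 2] []
  [(0, 1, 1), (1, 2, 1), (2, 3, 1), (3, 4, 1), (4, 5, 1), (5, 6, 1), (3, 7, 1)]
/-- Completed `E₈`. -/
def E8 : Tab := ofList [1, 2, 3, 4, 5, 6, 4, 2, 3] []
  [(0, 1, 1), (1, 2, 1), (2, 3, 1), (3, 4, 1), (4, 5, 1), (5, 6, 1), (6, 7, 1), (5, 8, 1)]

variable {F : Tab} {k : ℕ}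

theorem le_sum_nbrs (hδ : ∀ i < k, 0 < F.δ i) (hA : ∀ i j, 0 ≤ F.A i j) {j : ℕ} (s : Finset ℕ) (b : ℤ)
    (hs : ∀ i ∈ s, i < k ∧ i ≠ j) (hb : b ≤ ∑ i ∈ s, F.S j i * F.δ i) :
    b ≤ ∑ i ∈ (range k).erase j, F.S j i * F.δ i := by
  refine hb.trans (Finset.sum_le_sum_of_subset_of_nonneg
    (fun i hi => mem_erase.2 ⟨(hs i hi).2, mem_range.2 (hs i hi).1⟩) fun i hi _ => ?_)
  refine mul_nonneg ?_ (hδ i (mem_range.1 (mem_of_mem_erase hi))).le
  unfold S; split_ifs <;> apply hA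

theorem le_sum_one (hδ : ∀ i < k, 0 < F.δ i) (hA : ∀ i j, 0 ≤ F.A i j) {j : ℕ} (a : ℕ) (b : ℤ)
    (ha : a < k ∧ a ≠ j) (hb : b ≤ F.S j a * F.δ a) : b ≤ ∑ i ∈ (range k).erase j, F.S j i * F.δ i :=
  le_sum_nbrs hδ hA {a} b (by simpa using ha) (by simpa using hb)

theorem le_sum_two (hδ : ∀ i < k, 0 < F.δ i) (hA : ∀ i j, 0 ≤ F.A i j) {j : ℕ} (a a' : ℕ) (b : ℤ) (hne : a ≠ a')
    (ha : a < k ∧ a ≠ j) (ha' : a' < k ∧ a' ≠ j) (hb : b ≤ F.S j a * F.δ a + F.S j a' * F.δ a') :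
    b ≤ ∑ i ∈ (range k).erase j, F.S j i * F.δ i :=
  le_sum_nbrs hδ hA {a, a'} b (by simp [ha, ha']) (by rwa [sum_pair hne])

theorem le_sum_three (hδ : ∀ i < k, 0 < F.δ i) (hA : ∀ i j, 0 ≤ F.A i j) {j : ℕ} (a a' a'' : ℕ) (b : ℤ)
    (hne : a ≠ a' ∧ a ≠ a'' ∧ a' ≠ a'')
    (ha : a < k ∧ a ≠ j) (ha' : a' < k ∧ a' ≠ j) (ha'' : a'' < k ∧ a'' ≠ j)
    (hb : b ≤ F.S j a * F.δ a + F.S j a' * F.δ a' + F.S j a'' * F.δ a'') :
    b ≤ ∑ i ∈ (range k).erase j, F.S j i * F.δ i :=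
  le_sum_nbrs hδ hA {a, a', a''} b (by simp [ha, ha', ha''])
    (by rw [sum_insert (by simp [hne.1, hne.2.1]), sum_pair hne.2.2]; linarith)

/-- Evaluate the entries of the table at a goal. -/
syntax "tab_simp" : tactic
macro_rules | `(tactic| tab_simp) => `(tactic|
  ((try simp only [S, cyc, upUp, upDown, downUp, forkUp, forkDown, forkFork]) <;>
    (try simp (disch := omega) only [if_pos, if_neg]) <;>
    (repeat' split) <;> (first | omega | (simp_all; done) | (simp_all; omega))))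

theorem isAffine_cyc (hk : 3 ≤ k) : (cyc k).IsAffine k := by
  have hδ : ∀ i < k, 0 < (cyc k).δ i := fun i _ => one_pos
  have hA : ∀ i j, 0 ≤ (cyc k).A i j := fun i j => by tab_simp
  refine ⟨hδ, fun _ _ => one_pos, fun j hj => ?_⟩
  refine le_sum_two hδ hA (if j = 0 then k - 1 else j - 1) (if j + 1 = k then 0 else j + 1) _ ?_ ?_ ?_ ?_
  · split_ifs <;> omega
  · split_ifs <;> omega
  · split_ifs <;> omega
  · by_cases h1 : j = 0 <;> by_cases h2 : j + 1 = k <;>
      simp only [h1, h2, if_true, if_false] <;> tab_simp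

theorem isAffine_upUp (hk : 2 ≤ k) : (upUp k).IsAffine k := by
  have hδ : ∀ i < k, 0 < (upUp k).δ i := fun i _ => by tab_simp
  have hA : ∀ i j, 0 ≤ (upUp k).A i j := fun i j => by tab_simp
  refine ⟨hδ, fun i _ => by tab_simp, fun j hj => ?_⟩
  rcases Nat.eq_zero_or_pos j with rfl | h0
  · exact le_sum_one hδ hA 1 _ (by omega) (by tab_simp)
  rcases (Nat.succ_le_of_lt hj).eq_or_lt with h | h
  · exact le_sum_one hδ hA (j - 1) _ (by omega) (by tab_simp)
  · exact le_sum_two hδ hA (j - 1) (j + 1) _ (by omega) (by omega) (by omega) (by tab_simp)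

theorem isAffine_upDown (hk : 2 ≤ k) : (upDown k).IsAffine k := by
  have hδ : ∀ i < k, 0 < (upDown k).δ i := fun i _ => by tab_simp
  have hA : ∀ i j, 0 ≤ (upDown k).A i j := fun i j => by tab_simp
  refine ⟨hδ, fun i _ => by tab_simp, fun j hj => ?_⟩
  rcases Nat.eq_zero_or_pos j with rfl | h0
  · exact le_sum_one hδ hA 1 _ (by omega) (by tab_simp)
  rcases (Nat.succ_le_of_lt hj).eq_or_lt with h | h
  · exact le_sum_one hδ hA (j - 1) _ (by omega) (by tab_simp)
  · exact le_sum_two hδ hA (j - 1) (j + 1) _ (by omega) (by omega) (by omega) (by tab_simp)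

theorem isAffine_downUp (hk : 3 ≤ k) : (downUp k).IsAffine k := by
  have hδ : ∀ i < k, 0 < (downUp k).δ i := fun i _ => by tab_simp
  have hA : ∀ i j, 0 ≤ (downUp k).A i j := fun i j => by tab_simp
  refine ⟨hδ, fun i _ => by tab_simp, fun j hj => ?_⟩
  rcases Nat.eq_zero_or_pos j with rfl | h0
  · exact le_sum_one hδ hA 1 _ (by omega) (by tab_simp)
  rcases (Nat.succ_le_of_lt hj).eq_or_lt with h | h
  · exact le_sum_one hδ hA (j - 1) _ (by omega) (by tab_simp)
  · exact le_sum_two hδ hA (j - 1) (j + 1) _ (by omega) (by omega) (by omega) (by tab_simp)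

theorem isAffine_forkUp (hk : 4 ≤ k) : (forkUp k).IsAffine k := by
  have hδ : ∀ i < k, 0 < (forkUp k).δ i := fun i _ => by tab_simp
  have hA : ∀ i j, 0 ≤ (forkUp k).A i j := fun i j => by tab_simp
  refine ⟨hδ, fun i _ => by tab_simp, fun j hj => ?_⟩
  rcases Nat.eq_zero_or_pos j with rfl | h0
  · exact le_sum_one hδ hA 1 _ (by omega) (by tab_simp)
  rcases Nat.lt_or_ge (j + 2) k with h | h
  · rcases (Nat.succ_le_of_lt h).eq_or_lt with h' | h'
    · exact le_sum_three hδ hA (j - 1) (j + 1) (j + 2) _ (by omega) (by omega) (by omega) (by omega) (by tab_simp)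
    · exact le_sum_two hδ hA (j - 1) (j + 1) _ (by omega) (by omega) (by omega) (by tab_simp)
  · exact le_sum_one hδ hA (k - 3) _ (by omega) (by tab_simp)

theorem isAffine_forkDown (hk : 4 ≤ k) : (forkDown k).IsAffine k := by
  have hδ : ∀ i < k, 0 < (forkDown k).δ i := fun i _ => by tab_simp
  have hA : ∀ i j, 0 ≤ (forkDown k).A i j := fun i j => by tab_simp
  refine ⟨hδ, fun i _ => by tab_simp, fun j hj => ?_⟩
  rcases Nat.eq_zero_or_pos j with rfl | h0
  · exact le_sum_one hδ hA 1 _ (by omega) (by tab_simp)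
  rcases Nat.lt_or_ge (j + 2) k with h | h
  · rcases (Nat.succ_le_of_lt h).eq_or_lt with h' | h'
    · exact le_sum_three hδ hA (j - 1) (j + 1) (j + 2) _ (by omega) (by omega) (by omega) (by omega) (by tab_simp)
    · exact le_sum_two hδ hA (j - 1) (j + 1) _ (by omega) (by omega) (by omega) (by tab_simp)
  · exact le_sum_one hδ hA (k - 3) _ (by omega) (by tab_simp)

theorem isAffine_forkFork (hk : 5 ≤ k) : (forkFork k).IsAffine k := by
  have hδ : ∀ i < k, 0 < (forkFork k).δ i := fun i _ => by tab_simp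
  have hA : ∀ i j, 0 ≤ (forkFork k).A i j := fun i j => by tab_simp
  refine ⟨hδ, fun _ _ => one_pos, fun j hj => ?_⟩
  rcases Nat.lt_or_ge j 2 with h0 | h0
  · exact le_sum_one hδ hA 2 _ (by omega) (by tab_simp)
  rcases Nat.lt_or_ge (j + 2) k with h | h
  · rcases h0.eq_or_lt with h2 | h2
    · subst h2
      rcases (Nat.succ_le_of_lt h).eq_or_lt with h' | h'
      · refine le_sum_nbrs hδ hA {0, 1, 3, 4} _ (fun i hi => ?_) ?_
        · simp only [mem_insert, mem_singleton] at hi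
          omega
        · rw [sum_insert (by simp), sum_insert (by simp), sum_pair (by omega)]
          tab_simp
      · exact le_sum_three hδ hA 0 1 3 _ (by omega) (by omega) (by omega) (by omega) (by tab_simp)
    · rcases (Nat.succ_le_of_lt h).eq_or_lt with h' | h'
      · exact le_sum_three hδ hA (j - 1) (j + 1) (j + 2) _ (by omega) (by omega) (by omega) (by omega) (by tab_simp)
      · exact le_sum_two hδ hA (j - 1) (j + 1) _ (by omega) (by omega) (by omega) (by tab_simp)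
  · exact le_sum_one hδ hA (k - 3) _ (by omega) (by tab_simp)

theorem isAffine_of_decide (h1 : ∀ i < k, 0 < F.δ i) (h2 : ∀ i < k, 0 < F.ω i)
    (h3 : ∀ j < k, 2 * F.ω j * F.δ j ≤ ∑ i ∈ (range k).erase j, F.S j i * F.δ i) : F.IsAffine k := ⟨h1, h2, h3⟩

theorem isAffine_A11 : A11.IsAffine 2 := isAffine_of_decide (by decide) (by decide) (by decide)
theorem isAffine_A22 : A22.IsAffine 2 := isAffine_of_decide (by decide) (by decide) (by decide)
theorem isAffine_G2a : G2a.IsAffine 3 := isAffine_of_decide (by decide) (by decide) (by decide)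
theorem isAffine_G2b : G2b.IsAffine 3 := isAffine_of_decide (by decide) (by decide) (by decide)
theorem isAffine_F4a : F4a.IsAffine 5 := isAffine_of_decide (by decide) (by decide) (by decide)
theorem isAffine_F4b : F4b.IsAffine 5 := isAffine_of_decide (by decide) (by decide) (by decide)
theorem isAffine_E6 : E6.IsAffine 7 := isAffine_of_decide (by decide) (by decide) (by decide)
theorem isAffine_E7 : E7.IsAffine 8 := isAffine_of_decide (by decide) (by decide) (by decide)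
theorem isAffine_E8 : E8.IsAffine 9 := isAffine_of_decide (by decide) (by decide) (by decide)

end Tab

end Groth.Agent.NumTypeLib
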