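import Groth.Agent.NumTypeLib.Core
import Groth.Agent.NumTypeLib.Quad
import Mathlib.Algebra.Order.Ring.Rat
import Mathlib.Data.Rat.Cast.Order

/-!
# The kernel of a connected symmetric integer matrix killing a positive vector
-/

open Finset Matrix

namespace Groth.Agent.NumTypeLib

/-- The standing hypotheses, for a matrix over `ℤ`. -/
structure IsNull {n : ℕ} (A : Matrix (Fin n) (Fin n) ℤ) (m : Fin n → ℤ) : Prop where
  symm : A.IsSymm
  nonneg : ∀ i j, i ≠ j → 0 ≤ A i j
  pos : ∀ i, 0 < m i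
  mulVec_eq : A.mulVec m = 0
  conn : ∀ I : Finset (Fin n), I.Nonempty → I ≠ univ → ∃ i ∈ I, ∃ j ∉ I, A i j ≠ 0

theorem IsNull.of_type {n : ℕ} (T : Models.NumericalType n) : IsNull T.a T.m :=
  ⟨T.symm, T.offDiag_nonneg, T.m_pos, T.mulVec_m, T.connected⟩

variable {n : ℕ} {A : Matrix (Fin n) (Fin n) ℤ} {m : Fin n → ℤ} (h : IsNull A m)

include h in
theorem IsNull.proportional {x : Fin n → ℤ} (hx : A.mulVec x = 0) (i j : Fin n) : x i * m j = x j * m i := by
  have key := quad_nonpos_and (A := A.map ((↑) : ℤ → ℚ)) (m := fun i => (m i : ℚ)) (h.symm.map _)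
    (fun i j hij => by simpa using h.nonneg i j hij) (fun i => by exact_mod_cast h.pos i)
    (by
      funext i
      have := congrArg (fun z : ℤ => (z : ℚ)) (congrFun h.mulVec_eq i)
      simpa [mulVec, dotProduct] using this)
    (fun I h1 h2 => by simpa using h.conn I h1 h2) (fun i => (x i : ℚ))
  have h0 : A.map ((↑) : ℤ → ℚ) *ᵥ (fun i => (x i : ℚ)) = 0 := by
    funext i
    have := congrArg (fun z : ℤ => (z : ℚ)) (congrFun hx i)
    simpa [mulVec, dotProduct] using this
  obtain ⟨q, hq⟩ := key.2.1 (by rw [h0, dotProduct_zero])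
  have hi := congrFun hq i
  have hj := congrFun hq j
  simp only [Pi.smul_apply, smul_eq_mul] at hi hj
  have : ((x i * m j : ℤ) : ℚ) = ((x j * m i : ℤ) : ℚ) := by
    push_cast
    rw [hi, hj]; ring
  exact_mod_cast this

end Groth.Agent.NumTypeLib
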