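import Groth.Agent.NumTypeLib.Contract
import Mathlib.LinearAlgebra.Quotient.Basic
import Mathlib.Logic.Equiv.Fin.Basic

/-!
# Picard groups under contraction and reindexing
-/

open Finset Matrix

namespace Groth.Agent.NumTypeLib

open Models

theorem w_mul_picMatrix {n : ℕ} (T : NumericalType n) (y : Fin n → ℤ) (i : Fin n) :
    T.w i * (T.picMatrix *ᵥ y) i = (T.a *ᵥ y) i := by
  simp only [Matrix.mulVec, dotProduct, Finset.mul_sum, ← mul_assoc]
  exact Finset.sum_congr rfl fun j _ => by rw [NumericalType.picMatrix, Int.mul_ediv_cancel' (T.w_dvd i j)]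

theorem mem_range_pic_iff {n : ℕ} (T : NumericalType n) (x : Fin n → ℤ) :
    x ∈ LinearMap.range T.picMatrix.mulVecLin ↔ ∃ y, ∀ i, (T.a *ᵥ y) i = T.w i * x i := by
  constructor
  · rintro ⟨y, rfl⟩
    exact ⟨y, fun i => (w_mul_picMatrix T y i).symm⟩
  · rintro ⟨y, hy⟩
    exact ⟨y, funext fun i => mul_left_cancel₀ (T.w_pos i).ne' ((w_mul_picMatrix T y i).trans (hy i))⟩

section Contraction

variable {n : ℕ} {T : NumericalType (n + 1)} (h : T.IsMinusOne (Fin.last n)) {T' : NumericalType n}
  (hT' : T.IsContraction T')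

/-- The map on vectors. -/
noncomputable def contrMap (T : NumericalType (n + 1)) : (Fin (n + 1) → ℤ) →ₗ[ℤ] (Fin n → ℤ) :=
  LinearMap.pi fun i => kk T i • LinearMap.proj i.castSucc + (bb T i / ww T i) • LinearMap.proj (Fin.last n)

theorem ww_mul_contrMap (T : NumericalType (n + 1)) (x : Fin (n + 1) → ℤ) (i : Fin n) :
    ww T i * contrMap T x i = T.w i.castSucc * x i.castSucc + bb T i * x (Fin.last n) := by
  simp only [contrMap, LinearMap.pi_apply, LinearMap.add_apply, LinearMap.smul_apply, LinearMap.proj_apply,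
    smul_eq_mul, mul_add, ← mul_assoc]
  rw [mul_comm (ww T i) (kk T i), kk_mul_ww,
    Int.mul_ediv_cancel' ((ww_dvd T i).trans (show T.w i.castSucc ∣ bb T i from T.w_dvd _ _))]

include h hT' in
theorem contr_mulVec (y : Fin (n + 1) → ℤ) (i : Fin n) :
    (T'.a *ᵥ fun j => y j.castSucc) i =
      (T.a *ᵥ y) i.castSucc + ee T i * (T.a *ᵥ y) (Fin.last n) := by
  have hlast : (T.a *ᵥ y) (Fin.last n) = (∑ j, bb T j * y j.castSucc) - T.w (Fin.last n) * y (Fin.last n) := by
    simp only [Matrix.mulVec, dotProduct, Fin.sum_univ_castSucc, h.2]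
    rw [show ∑ j : Fin n, T.a (Fin.last n) j.castSucc * y j.castSucc = ∑ j, bb T j * y j.castSucc from
      Finset.sum_congr rfl fun j _ => by rw [a_comm]; rfl]
    ring
  rw [hlast]
  simp only [Matrix.mulVec, dotProduct, Fin.sum_univ_castSucc, fun j => (hT'.2.1 i j).trans (a'_eq T h i j),
    add_mul, Finset.sum_add_distrib, mul_sub, Finset.mul_sum]
  rw [← mul_assoc (ee T i), mul_comm (ee T i) (T.w _), w_mul_ee,
    show ∑ j, T.w (Fin.last n) * (ee T i * ee T j) * y j.castSucc = ∑ j, ee T i * (bb T j * y j.castSucc) from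
      Finset.sum_congr rfl fun j _ => by rw [← w_mul_ee T j]; ring]
  rw [show T.a i.castSucc (Fin.last n) = bb T i from rfl]
  ring

include h hT' in
theorem exists_pic_hom :
    ∃ f : T.Pic →+ T'.Pic, Function.Injective f ∧ ∀ y : T'.Pic, ∃ x : T.Pic, 2 • y = f x := by
  have hw : ∀ i, T'.w i = ww T i := fun i => hT'.2.2.1 i
  let f : T.Pic →ₗ[ℤ] T'.Pic := Submodule.mapQ _ _ (contrMap T) (fun x hx => by
    obtain ⟨y, hy⟩ := (mem_range_pic_iff T x).1 hx
    refine Submodule.mem_comap.2 ((mem_range_pic_iff T' _).2 ⟨fun j => y j.castSucc, fun i => ?_⟩)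
    rw [contr_mulVec h hT', hy, hy, hw, ww_mul_contrMap, ← w_mul_ee]
    ring)
  refine ⟨f.toAddMonoidHom, ?_, fun z => ?_⟩
  · rw [injective_iff_map_eq_zero]
    intro z hz
    obtain ⟨x, rfl⟩ := Submodule.Quotient.mk_surjective _ z
    obtain ⟨y, hy⟩ := (mem_range_pic_iff T' _).1 ((Submodule.Quotient.mk_eq_zero _).1 hz)
    refine (Submodule.Quotient.mk_eq_zero _).2 ((mem_range_pic_iff T x).2
      ⟨Fin.snoc y ((∑ j, ee T j * y j) - x (Fin.last n)), ?_⟩)
    let Y : Fin (n + 1) → ℤ := Fin.snoc y ((∑ j, ee T j * y j) - x (Fin.last n))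
    have hlast : (T.a *ᵥ Y) (Fin.last n) = T.w (Fin.last n) * x (Fin.last n) := by
      simp only [Y, Matrix.mulVec, dotProduct, Fin.sum_univ_castSucc, h.2, Fin.snoc_castSucc, Fin.snoc_last, mul_sub,
        Finset.mul_sum]
      rw [show ∑ j : Fin n, T.a (Fin.last n) j.castSucc * y j = ∑ j, T.w (Fin.last n) * (ee T j * y j) from
        Finset.sum_congr rfl fun j _ => by
          rw [a_comm, show T.a j.castSucc (Fin.last n) = bb T j from rfl, ← w_mul_ee]; ring]
      simp only [neg_mul, Finset.sum_neg_distrib]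
      ring
    intro i
    induction i using Fin.lastCases with
    | last => exact hlast
    | cast i =>
      have h1 := contr_mulVec h hT' Y i
      rw [show (fun j : Fin n => Y j.castSucc) = y from funext fun j => Fin.snoc_castSucc _ _ _, hy, hw,
        ww_mul_contrMap, hlast, ← w_mul_ee] at h1
      show (T.a *ᵥ Y) i.castSucc = _
      linarith
  · obtain ⟨y, rfl⟩ := Submodule.Quotient.mk_surjective _ z
    refine ⟨Submodule.Quotient.mk (Fin.snoc (fun i => if kk T i = 2 then y i else 2 * y i) 0), ?_⟩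
    show 2 • Submodule.Quotient.mk y = Submodule.Quotient.mk (contrMap T _)
    rw [← Submodule.Quotient.mk_smul]
    congr 1
    funext i
    simp only [contrMap, LinearMap.pi_apply, LinearMap.add_apply, LinearMap.smul_apply, LinearMap.proj_apply,
      Fin.snoc_castSucc, Fin.snoc_last, smul_zero, add_zero, Pi.smul_apply, smul_eq_mul, nsmul_eq_mul]
    unfold kk
    split_ifs <;> push_cast <;> simp_all

end Contraction

section Reindex

variable {n : ℕ} (T : NumericalType n) (σ : Equiv.Perm (Fin n))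

/-- The numerical type with permuted indices. -/
def reindex : NumericalType n where
  m i := T.m (σ i)
  a := T.a.submatrix σ σ
  w i := T.w (σ i)
  g i := T.g (σ i)
  pos := T.pos
  m_pos _ := T.m_pos _
  w_pos _ := T.w_pos _
  g_nonneg _ := T.g_nonneg _
  symm := T.symm.submatrix σ
  offDiag_nonneg i j hij := T.offDiag_nonneg _ _ fun e => hij (σ.injective e)
  connected I hI hI' := by
    obtain ⟨i, hi, j, hj, hij⟩ := T.connected (I.map σ.toEmbedding) (hI.map) fun e => hI' (by
      rw [← map_univ_equiv σ] at e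
      exact map_injective _ e)
    obtain ⟨i, hiI, rfl⟩ := mem_map.1 hi
    obtain ⟨j, rfl⟩ := σ.surjective j
    exact ⟨i, hiI, j, fun h => hj (mem_map_of_mem _ h), hij⟩
  mulVec_m := funext fun i => (Equiv.sum_comp σ fun j => T.a (σ i) j * T.m j).trans (congrFun T.mulVec_m (σ i))
  w_dvd _ _ := T.w_dvd _ _

theorem genus_reindex : (reindex T σ).genus = T.genus := by
  simp only [NumericalType.genus, reindex, Matrix.submatrix_apply]
  rw [Equiv.sum_comp σ fun i => T.m i * T.w i * (T.g i - 1), Equiv.sum_comp σ fun i => T.m i * T.a i i]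

theorem exists_pic_reindex : ∃ f : T.Pic →+ (reindex T σ).Pic, Function.Injective f := by
  let e : (Fin n → ℤ) →ₗ[ℤ] (Fin n → ℤ) := LinearMap.funLeft ℤ ℤ σ
  have key : ∀ y i, ((reindex T σ).a *ᵥ fun j => y (σ j)) i = (T.a *ᵥ y) (σ i) := fun y i =>
    Equiv.sum_comp σ fun j => T.a (σ i) j * y j
  let f : T.Pic →ₗ[ℤ] (reindex T σ).Pic := Submodule.mapQ _ _ e fun x hx => by
    obtain ⟨y, hy⟩ := (mem_range_pic_iff T x).1 hx
    exact Submodule.mem_comap.2 ((mem_range_pic_iff _ _).2 ⟨fun j => y (σ j), fun i => (key y i).trans (hy _)⟩)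
  refine ⟨f.toAddMonoidHom, ?_⟩
  rw [injective_iff_map_eq_zero]
  intro z hz
  obtain ⟨x, rfl⟩ := Submodule.Quotient.mk_surjective _ z
  obtain ⟨y, hy⟩ := (mem_range_pic_iff _ _).1 ((Submodule.Quotient.mk_eq_zero _).1 hz)
  refine (Submodule.Quotient.mk_eq_zero _).2 ((mem_range_pic_iff T x).2 ⟨fun j => y (σ.symm j), fun i => ?_⟩)
  obtain ⟨i, rfl⟩ := σ.surjective i
  rw [← key]
  simpa [e, reindex] using hy i

end Reindex

/-- Every numerical type contracts to a minimal one of the same genus with a larger Picard group. -/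
theorem exists_minimal : ∀ {n : ℕ} (T : NumericalType n), ∃ (k : ℕ) (T' : NumericalType k),
    T'.IsMinimal ∧ T'.genus = T.genus ∧ ∃ f : T.Pic →+ T'.Pic, Function.Injective f
  | 0, T => absurd T.pos (by simp)
  | n + 1, T => by
    classical
    by_cases hmin : T.IsMinimal
    · exact ⟨_, T, hmin, rfl, AddMonoidHom.id _, Function.injective_id⟩
    simp only [NumericalType.IsMinimal, not_forall, not_not] at hmin
    obtain ⟨i, hi⟩ := hmin
    let σ := Equiv.swap i (Fin.last n)
    let S := reindex T σ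
    have hS : S.IsMinusOne (Fin.last n) := by
      refine ⟨?_, ?_⟩
      · show T.g (σ _) = 0
        rw [Equiv.swap_apply_right]; exact hi.1
      · show T.a (σ _) (σ _) = -T.w (σ _)
        rw [Equiv.swap_apply_right]; exact hi.2
    obtain ⟨f, hf⟩ := exists_pic_reindex T σ
    obtain ⟨g, hg, -⟩ := exists_pic_hom hS (isContraction_contraction S hS)
    obtain ⟨k, T', h1, h2, f', hf'⟩ := exists_minimal (contraction S hS)
    exact ⟨k, T', h1, h2.trans ((genus_of_isContraction S hS (isContraction_contraction S hS)).trans (genus_reindex T σ)),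
      f'.comp (g.comp f), hf'.comp (hg.comp hf)⟩

theorem picMatrix_eq_zero_of_one (T : NumericalType 1) : T.picMatrix = 0 := by
  funext i j
  have h := row_eq T 0
  rw [Fin.sum_univ_one, mul_eq_zero] at h
  rw [Fin.fin_one_eq_zero i, Fin.fin_one_eq_zero j, NumericalType.picMatrix, h.resolve_right (T.m_pos 0).ne',
    Int.zero_ediv]
  rfl

/-- The Picard group on one index is `ℤ`. -/
noncomputable def picEquivOne (T : NumericalType 1) : T.Pic ≃ₗ[ℤ] ℤ :=
  (Submodule.quotEquivOfEqBot _ (by rw [picMatrix_eq_zero_of_one]; simp)).trans (LinearEquiv.funUnique (Fin 1) ℤ ℤ)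

end Groth.Agent.NumTypeLib
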