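import Groth.Agent.NumTypeLib.Classify

/-!
# Configurations of `(-2)`-indices which do not fill the whole numerical type
-/

open Finset

namespace Groth.Agent.NumTypeLib

open Models

variable {n : ℕ} {T : NumericalType n} {p : ℕ → Fin n} {L : ℕ}

/-- A path given by an embedding. -/
def ofEmb {k : ℕ} (v : Fin (k + 1) ↪ Fin n) (i : ℕ) : Fin n := v ⟨min i k, by omega⟩

theorem ofEmb_apply {k : ℕ} (v : Fin (k + 1) ↪ Fin n) {i : ℕ} (h : i ≤ k) : ofEmb v i = v ⟨i, by omega⟩ :=
  congrArg v (Fin.ext (min_eq_left h))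

theorem ofEmb_val {k : ℕ} (v : Fin (k + 1) ↪ Fin n) (j : Fin (k + 1)) : ofEmb v j = v j := ofEmb_apply v (by omega)

theorem a_pos_of_adj {i j : Fin n} (h : Adj T i j) : 0 < T.a i j := a_pos T h.1 h.2

theorem row_le {i : Fin n} (hi : T.IsMinusTwo i) (s : Finset (Fin n)) (his : i ∉ s) :
    ∑ j ∈ s, cc T i j * T.m j ≤ 2 * T.m i := by
  refine le_of_mul_le_mul_left ?_ (T.w_pos i)
  rw [Finset.mul_sum]
  simp only [← mul_assoc, w_mul_cc]
  refine (row_sum_le T his).trans (le_of_eq ?_)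
  rw [hi.2]; ring

theorem row_le_one {i j : Fin n} (hi : T.IsMinusTwo i) (h : i ≠ j) : cc T i j * T.m j ≤ 2 * T.m i := by
  simpa using row_le hi {j} (by simpa using h)

theorem row_le_two {i j l : Fin n} (hi : T.IsMinusTwo i) (hj : i ≠ j) (hl : i ≠ l) (h : j ≠ l) :
    cc T i j * T.m j + cc T i l * T.m l ≤ 2 * T.m i := by
  have := row_le hi {j, l} (by simp [hj, hl])
  rwa [sum_pair h] at this

theorem row_le_three {i j l o : Fin n} (hi : T.IsMinusTwo i) (hj : i ≠ j) (hl : i ≠ l) (ho : i ≠ o)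
    (h1 : j ≠ l) (h2 : j ≠ o) (h3 : l ≠ o) :
    cc T i j * T.m j + cc T i l * T.m l + cc T i o * T.m o ≤ 2 * T.m i := by
  have := row_le hi {j, l, o} (by simp [hj, hl, ho])
  rw [sum_insert (by simp [h1, h2]), sum_pair h3, ← add_assoc] at this
  exact this

theorem w_a_of_one {i j : Fin n} (h : cc T i j = 1) (h' : cc T j i = 1) : T.w j = T.w i ∧ T.a i j = T.w i := by
  have := cc_comm (T := T) i j
  rw [h, h', mul_one, mul_one] at this
  exact ⟨this.symm, by rw [← w_mul_cc, h, mul_one]⟩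

theorem w_a_of_cc {i j : Fin n} {c : ℤ} (h : cc T i j = c) (h' : cc T j i = 1) :
    T.w j = c * T.w i ∧ T.a i j = c * T.w i := by
  have := cc_comm (T := T) i j
  rw [h, h', mul_one] at this
  exact ⟨by rw [← this]; ring, by rw [← w_mul_cc, h]; ring⟩

theorem a_eq_zero_of_path (hp : IsPath T p L) (hlt : L + 1 < n) {i j : ℕ} (hij : i + 2 ≤ j) (hj : j ≤ L) :
    T.a (p i) (p j) = 0 := by
  by_contra h
  have hne : p i ≠ p j := fun e => by have := hp.inj _ (by omega) _ hj e; omega
  have h' : Adj T (p j) (p i) := Adj.symm ⟨hne, h⟩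
  obtain ⟨hk, -⟩ := found_cyc (hp.segment (a := i) (M := j - i) (by omega)) (by omega)
    (by simpa [show i + (j - i) = j by omega] using h')
  omega

theorem prod_lt_four (hn : 2 < n) {a b : Fin n} (ha : T.IsMinusTwo a) (hb : T.IsMinusTwo b) (h : Adj T a b) :
    cc T a b * cc T b a < 4 := by
  by_contra hh
  rcases found_pair ha hb h (not_lt.1 hh) with ⟨hk, -⟩ | ⟨hk, -⟩ <;> omega

theorem pair_cases (hn : 2 < n) {a b : Fin n} (ha : T.IsMinusTwo a) (hb : T.IsMinusTwo b) (h : Adj T a b) :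
    (cc T a b = 1 ∧ (cc T b a = 1 ∨ cc T b a = 2 ∨ cc T b a = 3)) ∨ ((cc T a b = 2 ∨ cc T a b = 3) ∧ cc T b a = 1) := by
  have h1 := h.one_le
  have h2 := h.symm.one_le
  have h4 := prod_lt_four hn ha hb h
  rcases eq_or_lt_of_le h1 with h1' | h1' <;> rcases eq_or_lt_of_le h2 with h2' | h2'
  · exact Or.inl ⟨h1'.symm, Or.inl h2'.symm⟩
  · rw [← h1', one_mul] at h4
    omega
  · rw [← h2', mul_one] at h4
    omega
  · nlinarith

theorem size_twoDbl (hp : IsPath T p L) (hL : 2 ≤ L) (h0 : Dbl T (p 0) (p 1)) (h1 : Dbl T (p (L - 1)) (p L)) :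
    L + 1 = n := by
  rcases h0 with h0 | h0 <;> rcases h1 with h1 | h1
  · exact (found_upUp hp hL h0 h1).1
  · exact (found_upDown hp hL h0 h1).1
  · exact (found_downUp hp hL h0 h1).1
  · exact (found_upUp (hp.rev le_rfl le_rfl) hL (by simpa using h1)
      (by simpa [show L - (L - 1) = 1 by omega] using h0)).1

theorem size_forkDbl (hp : IsPath T p L) (hL : 2 ≤ L) {u : Fin n} (hu : T.IsMinusTwo u)
    (hne : ∀ i ≤ L, p i ≠ u) (hadj : Adj T (p (L - 1)) u) (h0 : Dbl T (p 0) (p 1)) : L + 2 = n := by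
  rcases h0 with h0 | h0
  · exact (found_forkDown hp hL hu hne hadj h0).1
  · exact (found_forkUp hp hL hu hne hadj h0).1

/-- A path with one extra index attached inside: everything is simply laced. -/
theorem fork_simple (hp : IsPath T p L) {u : Fin n} (hu : T.IsMinusTwo u) (hne : ∀ i ≤ L, p i ≠ u) {b : ℕ}
    (hb0 : 0 < b) (hbL : b < L) (hadj : Adj T (p b) u) (hlt : L + 2 < n) :
    (∀ e < L, cc T (p e) (p (e + 1)) = 1 ∧ cc T (p (e + 1)) (p e) = 1) ∧ cc T (p b) u = 1 ∧ cc T u (p b) = 1 ∧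
      ∀ i ≤ L, i ≠ b → T.a (p i) u = 0 := by
  have hdbu : ¬Dbl T u (p b) := fun hd => by
    have q := ((hp.rev (a := b + 1) (M := 1) (by omega) (by omega)).snoc hu (fun i hi => hne _ (by omega))
      (by simpa using hadj)).rev le_rfl le_rfl
    have := size_forkDbl q (by omega) (hp.isMinusTwo (b - 1) (by omega)) (fun i hi => by
        unfold snocFun
        split_ifs
        · intro h; have := hp.inj _ (by omega) _ (by omega) h; omega
        · exact (hne _ (by omega)).symm)
      (by simpa [snocFun, show b - 1 + 1 = b by omega] using (hp.adj (b - 1) (by omega)).symm)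
      (by simpa [snocFun] using hd)
    omega
  refine ⟨fun e he => eq_one_of_not_dbl (hp.adj e he) fun hd => ?_, (eq_one_of_not_dbl hadj fun h => hdbu h.symm).1,
    (eq_one_of_not_dbl hadj fun h => hdbu h.symm).2, fun i hi hib => ?_⟩
  · rcases Nat.lt_or_ge e b with h | h
    · have := size_forkDbl (hp.segment (a := e) (M := b + 1 - e) (by omega)) (by omega) hu
        (fun i hi => hne _ (by omega)) (by simpa [show e + (b + 1 - e - 1) = b by omega] using hadj) (by simpa using hd)
      omega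
    · have := size_forkDbl (hp.rev (a := e + 1) (M := e + 2 - b) (by omega) (by omega)) (by omega) hu
        (fun i hi => hne _ (by omega)) (by simpa [show e + 1 - (e + 2 - b - 1) = b by omega] using hadj)
        (by simpa using hd.symm)
      omega
  · by_contra h
    have hiu : Adj T (p i) u := ⟨hne i hi, h⟩
    rcases lt_or_gt_of_ne hib with h' | h'
    · have q := (hp.segment (a := i) (M := b - i) (by omega)).snoc hu (fun j hj => hne _ (by omega))
        (by simpa [show i + (b - i) = b by omega] using hadj)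
      have := (found_cyc q (by omega) (by simpa [snocFun] using hiu.symm)).1
      omega
    · have q := (hp.segment (a := b) (M := i - b) (by omega)).snoc hu (fun j hj => hne _ (by omega))
        (by simpa [show b + (i - b) = i by omega] using hiu)
      have := (found_cyc q (by omega) (by simpa [snocFun] using hadj.symm)).1
      omega

theorem w_eq_of_simple (h : ∀ e < L, cc T (p e) (p (e + 1)) = 1 ∧ cc T (p (e + 1)) (p e) = 1) :
    ∀ i ≤ L, T.w (p i) = T.w (p 0)
  | 0, _ => rfl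
  | i + 1, hi => (w_a_of_one (h i (by omega)).1 (h i (by omega)).2).1.trans (w_eq_of_simple h i (by omega))

theorem a_eq_of_simple (h : ∀ e < L, cc T (p e) (p (e + 1)) = 1 ∧ cc T (p (e + 1)) (p e) = 1) {e : ℕ} (he : e < L) :
    T.a (p e) (p (e + 1)) = T.w (p 0) := by
  rw [(w_a_of_one (h e he).1 (h e he).2).2, w_eq_of_simple h e he.le]

/-- The shapes of a chain which does not fill everything. -/
theorem chain_cases (hp : IsPath T p L) (hL : 2 ≤ L) (hlt : L + 1 < n) :
    (∀ e < L, cc T (p e) (p (e + 1)) = 1 ∧ cc T (p (e + 1)) (p e) = 1) ∨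
      ∃ q : ℕ → Fin n, (q = p ∨ q = fun i => p (L - i)) ∧ IsPath T q L ∧
        (((∀ e, e + 1 < L → cc T (q e) (q (e + 1)) = 1 ∧ cc T (q (e + 1)) (q e) = 1) ∧
            ((cc T (q (L - 1)) (q L) = 2 ∧ cc T (q L) (q (L - 1)) = 1) ∨
              (cc T (q (L - 1)) (q L) = 1 ∧ cc T (q L) (q (L - 1)) = 2))) ∨
          (L = 3 ∧ cc T (q 0) (q 1) = 1 ∧ cc T (q 1) (q 0) = 1 ∧ cc T (q 1) (q 2) = 2 ∧ cc T (q 2) (q 1) = 1 ∧
            cc T (q 2) (q 3) = 1 ∧ cc T (q 3) (q 2) = 1)) := by
  by_cases hd : ∃ e < L, Dbl T (p e) (p (e + 1))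
  swap
  · push Not at hd
    exact Or.inl fun e he => eq_one_of_not_dbl (hp.adj e he) (hd e he)
  right
  obtain ⟨e, he, hd⟩ := hd
  have huniq : ∀ e' < L, e' ≠ e → cc T (p e') (p (e' + 1)) = 1 ∧ cc T (p (e' + 1)) (p e') = 1 := fun e' he' hne =>
    eq_one_of_not_dbl (hp.adj e' he') fun hd' => by
      rcases lt_or_gt_of_ne hne with h | h
      · have := size_twoDbl (hp.segment (a := e') (M := e - e' + 1) (by omega)) (by omega)
          (by simpa using hd') (by simpa [show e' + (e - e' + 1) = e + 1 by omega, show e' + (e - e') = e by omega] using hd)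
        omega
      · have := size_twoDbl (hp.segment (a := e) (M := e' - e + 1) (by omega)) (by omega)
          (by simpa using hd) (by simpa [show e + (e' - e + 1) = e' + 1 by omega, show e + (e' - e) = e' by omega] using hd')
        omega
  have hc := hp.adj e he
  have h2 : (cc T (p e) (p (e + 1)) = 2 ∧ cc T (p (e + 1)) (p e) = 1) ∨
      (cc T (p e) (p (e + 1)) = 1 ∧ cc T (p (e + 1)) (p e) = 2) := by
    have h3 : ¬(3 ≤ cc T (p e) (p (e + 1)) ∨ 3 ≤ cc T (p (e + 1)) (p e)) := fun h => by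
      rcases Nat.eq_zero_or_pos e with rfl | h0
      · rcases found_G2 (hp.rev (a := 2) (M := 2) hL le_rfl) (Or.symm (by simpa using h)) with ⟨hk, -⟩ | ⟨hk, -⟩ <;> omega
      · rcases found_G2 (hp.segment (a := e - 1) (M := 2) (by omega))
          (by simpa [show e - 1 + 1 = e by omega, show e - 1 + 2 = e + 1 by omega] using h) with ⟨hk, -⟩ | ⟨hk, -⟩ <;> omega
    push Not at h3
    rcases pair_cases (by omega) (hp.isMinusTwo e he.le) (hp.isMinusTwo (e + 1) he) hc with ⟨h, h'⟩ | ⟨h, h'⟩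
    · rcases h' with h' | h' | h'
      · unfold Dbl at hd; omega
      · exact Or.inr ⟨h, h'⟩
      · omega
    · exact Or.inl ⟨by omega, h'⟩
  rcases eq_or_ne (e + 1) L with hlast | hlast
  · refine ⟨p, Or.inl rfl, hp, Or.inl ⟨fun e' he' => huniq e' (by omega) (by omega), ?_⟩⟩
    obtain rfl : e = L - 1 := by omega
    rwa [hlast] at h2
  rcases Nat.eq_zero_or_pos e with rfl | h0
  · refine ⟨fun i => p (L - i), Or.inr rfl, hp.rev le_rfl le_rfl, Or.inl ⟨fun e' he' => ?_, ?_⟩⟩
    · have := huniq (L - (e' + 1)) (by omega) (by omega)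
      rw [show L - (e' + 1) + 1 = L - e' by omega] at this
      exact this.symm
    · simp only [show L - (L - 1) = 1 by omega, Nat.sub_self]
      exact h2.symm.imp And.symm And.symm
  -- the double edge is interior
  have hL3 : L = 3 := by
    by_contra h
    rcases Nat.lt_or_ge e 2 with h1 | h1
    · obtain rfl : e = 1 := by omega
      rcases found_F4 (hp.rev (a := 4) (M := 4) (by omega) le_rfl) (Or.symm (by simpa [Dbl] using hd)) with
        ⟨hk, -⟩ | ⟨hk, -⟩ <;> omega
    · rcases found_F4 (hp.segment (a := e - 2) (M := 4) (by omega))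
        (by simpa [Dbl, show e - 2 + 2 = e by omega, show e - 2 + 3 = e + 1 by omega] using hd) with ⟨hk, -⟩ | ⟨hk, -⟩ <;> omega
  subst hL3
  obtain rfl : e = 1 := by omega
  obtain ⟨u1, u2⟩ := huniq 0 (by omega) (by omega)
  obtain ⟨v1, v2⟩ := huniq 2 (by omega) (by omega)
  rcases h2 with ⟨a1, a2⟩ | ⟨a1, a2⟩
  · exact ⟨p, Or.inl rfl, hp, Or.inr ⟨rfl, u1, u2, a1, a2, v1, v2⟩⟩
  · exact ⟨fun i => p (3 - i), Or.inr rfl, hp.rev le_rfl le_rfl, Or.inr ⟨rfl, v2, v1, a2, a1, u2, u1⟩⟩

theorem isPath_ofEmb {k : ℕ} (v : Fin (k + 1) ↪ Fin n) (hv : ∀ j, T.IsMinusTwo (v j)) (M : ℕ) (hM : M ≤ k)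
    (hadj : ∀ j j' : Fin (k + 1), j'.val = j.val + 1 → j'.val ≤ M → T.a (v j) (v j') ≠ 0) :
    IsPath T (ofEmb v) M where
  isMinusTwo i _ := hv _
  inj i hi j hj e := by
    rw [ofEmb_apply v (by omega), ofEmb_apply v (by omega)] at e
    exact congrArg Fin.val (v.injective e)
  adj i hi := by
    rw [ofEmb_apply v (by omega), ofEmb_apply v (by omega)]
    exact ⟨v.injective.ne (fun h => by have := congrArg Fin.val h; simp at this), hadj ⟨i, by omega⟩ ⟨i + 1, by omega⟩ rfl (by show i + 1 ≤ M; omega)⟩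

end Groth.Agent.NumTypeLib
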