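import Groth.Agent.NumTypeLib.Affine
import Mathlib.Data.Fintype.EquivFin

/-!
# Tables of affine configurations
-/

open Finset

namespace Groth.Agent.NumTypeLib

open Models

/-- A table: multiplicities, weights, and intersection numbers of pairs `i < j`, indexed by naturals. -/
structure Tab where
  /-- multiplicities -/
  δ : ℕ → ℤ
  /-- weights -/
  ω : ℕ → ℤ
  /-- intersection numbers of `i < j` -/
  A : ℕ → ℕ → ℤ

namespace Tab

/-- The symmetrised intersection numbers. -/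
def S (F : Tab) (i j : ℕ) : ℤ := if i < j then F.A i j else F.A j i

theorem S_comm (F : Tab) {i j : ℕ} (h : i ≠ j) : F.S i j = F.S j i := by
  unfold S; split_ifs <;> first | rfl | omega

theorem S_of_lt (F : Tab) {i j : ℕ} (h : i < j) : F.S i j = F.A i j := if_pos h

theorem S_of_gt (F : Tab) {i j : ℕ} (h : j < i) : F.S i j = F.A j i := if_neg (by omega)

/-- An affine table of size `k`. -/
structure IsAffine (F : Tab) (k : ℕ) : Prop where
  δ_pos : ∀ i < k, 0 < F.δ i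
  ω_pos : ∀ i < k, 0 < F.ω i
  affine : ∀ j < k, 2 * F.ω j * F.δ j ≤ ∑ i ∈ (range k).erase j, F.S j i * F.δ i

end Tab

variable {n : ℕ} {T : NumericalType n} {k : ℕ} {F : Tab}

theorem sum_erase_fin (j : Fin k) (f : ℕ → ℤ) : ∑ i ∈ (range k).erase j, f i = ∑ i ∈ univ.erase j, f (i : ℕ) := by
  rw [Finset.sum_erase_eq_sub (mem_range.2 j.isLt), Finset.sum_erase_eq_sub (mem_univ j), Finset.sum_range]

/-- `T` dominates the table at the indices `v`. -/
theorem Tab.IsAffine.dom (hF : F.IsAffine k) (v : Fin k ↪ Fin n) (hv : ∀ j, T.IsMinusTwo (v j))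
    (hle : ∀ i j : Fin k, i.val < j.val → F.A i j ≠ 0 →
      F.A i j ≤ F.ω i * cc T (v i) (v j) ∧ F.A i j ≤ F.ω j * cc T (v j) (v i)) :
    Dom T v (fun i => F.δ i) (fun i => F.ω i) (fun i j => F.S i j) where
  isMinusTwo := hv
  δ_pos i := hF.δ_pos i i.isLt
  ω_pos i := hF.ω_pos i i.isLt
  affine j := (hF.affine j j.isLt).trans_eq (sum_erase_fin j fun i => F.S j i * F.δ i)
  le j i hji := by
    have h0 : 0 ≤ F.ω j * cc T (v j) (v i) :=
      mul_nonneg (hF.ω_pos j j.isLt).le (cc_nonneg (v.injective.ne hji))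
    rcases lt_or_gt_of_ne (Fin.val_ne_iff.2 hji) with h | h
    · rw [F.S_of_lt h]
      exact if hA : F.A j i = 0 then hA ▸ h0 else (hle j i h hA).1
    · rw [F.S_of_gt h]
      exact if hA : F.A i j = 0 then hA ▸ h0 else (hle i j h hA).2

/-- The indices of `T` can be ordered so that its data is the table. -/
def HasTab (T : NumericalType n) (F : Tab) : Prop :=
  ∃ (σ : Equiv.Perm (Fin n)) (m w : ℤ), (∀ i : Fin n, T.m (σ i) = F.δ i * m) ∧
    (∀ i : Fin n, T.w (σ i) = F.ω i * w) ∧ (∀ i : Fin n, T.a (σ i) (σ i) = -2 * (F.ω i * w)) ∧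
    ∀ i j : Fin n, i.val < j.val → T.a (σ i) (σ j) = F.A i j * w

theorem hasTab_of_dom {v : Fin k ↪ Fin n} (hk : 0 < k)
    (D : Dom T v (fun i => F.δ i) (fun i => F.ω i) (fun i j => F.S i j))
    (hb : ∃ b < k, F.δ b = 1) (hc : ∃ c < k, F.ω c = 1) : k = n ∧ HasTab T F := by
  obtain rfl := D.card_eq hk
  obtain ⟨b, hbk, hb⟩ := hb
  obtain ⟨c, hck, hc⟩ := hc
  let σ : Equiv.Perm (Fin k) := Equiv.ofBijective v (Finite.injective_iff_bijective.1 v.injective)
  have hw : ∀ i, T.w (σ i) = F.ω i * T.w (σ ⟨c, hck⟩) := by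
    suffices ∀ l, T.w l = F.ω (σ.symm l) * T.w (σ ⟨c, hck⟩) from fun i => by simpa using this (σ i)
    refine forall_of_adj T.connected _ (σ ⟨c, hck⟩) (by simp [hc]) fun i j hi hij => ?_
    obtain ⟨i, rfl⟩ := σ.surjective i
    obtain ⟨j, rfl⟩ := σ.surjective j
    rcases eq_or_ne i j with rfl | hne
    · exact hi
    rw [Equiv.symm_apply_apply] at hi ⊢
    have e1 : F.S i j = F.ω i * cc T (σ i) (σ j) := D.eq hk hne
    have e2 : F.S j i = F.ω j * cc T (σ j) (σ i) := D.eq hk hne.symm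
    rw [F.S_comm (Fin.val_ne_iff.2 hne.symm), e1] at e2
    have e3 := cc_comm (T := T) (σ i) (σ j)
    have hc0 : cc T (σ j) (σ i) ≠ 0 := fun h => hij (a_comm T (σ j) (σ i) ▸ cc_eq_zero_iff.1 h)
    have hωi := (D.ω_pos i).ne'
    refine mul_right_cancel₀ hc0 (mul_left_cancel₀ hωi ?_)
    simp only [hi] at e3
    linear_combination (-(F.ω i : ℤ)) * e3 + (F.ω i * T.w (σ ⟨c, hck⟩)) * e2
  refine ⟨rfl, σ, T.m (σ ⟨b, hbk⟩), T.w (σ ⟨c, hck⟩), fun i => ?_, hw, fun i => ?_, fun i j hij => ?_⟩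
  · have h : F.δ b * T.m (σ i) = F.δ i * T.m (σ ⟨b, hbk⟩) := D.proportional hk ⟨b, hbk⟩ i
    rwa [hb, one_mul] at h
  · rw [← hw i]
    exact (D.isMinusTwo i).2
  · have e1 : F.S i j = F.ω i * cc T (σ i) (σ j) := D.eq hk (Fin.ne_of_val_ne hij.ne)
    rw [← F.S_of_lt hij, e1, ← w_mul_cc, hw i]
    ring

end Groth.Agent.NumTypeLib
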