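import Groth.Agent.NumTypeLib.Classify
import Mathlib.Tactic.FinCases

/-!
# Reading off a table
-/

namespace Groth.Agent.NumTypeLib

open Models

variable {n : ℕ} {T : NumericalType n} {F : Tab}

/-- All the entries of `T` in terms of a table, after reordering by `π`. -/
theorem HasTab.entries (h : HasTab T F) (π : Equiv.Perm (Fin n)) :
    ∃ (σ : Equiv.Perm (Fin n)) (m w : ℤ), (∀ i : Fin n, T.m (σ i) = F.δ (π i) * m) ∧
      (∀ i : Fin n, T.w (σ i) = F.ω (π i) * w) ∧
      ∀ i j : Fin n, T.a (σ i) (σ j) =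
        if (π i : ℕ) = π j then -2 * (F.ω (π i) * w) else F.S (π i) (π j) * w := by
  obtain ⟨σ, m, w, hm, hw, hd, ha⟩ := h
  refine ⟨π.trans σ, m, w, fun i => hm _, fun i => hw _, fun i j => ?_⟩
  show T.a (σ (π i)) (σ (π j)) = _
  split_ifs with h
  · rw [Fin.ext h]
    exact hd _
  · rcases lt_or_gt_of_ne h with h' | h'
    · rw [F.S_of_lt h']
      exact ha _ _ h'
    · rw [F.S_of_gt h', a_comm]
      exact ha _ _ h'

/-- The permutation given by a list of values and the list of its inverse. -/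
def permOfLists (l l' : Fin n → Fin n) (h : ∀ i, l' (l i) = i) (h' : ∀ i, l (l' i) = i) : Equiv.Perm (Fin n) :=
  ⟨l, l', h, h'⟩

end Groth.Agent.NumTypeLib
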