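import Groth.Agent.NumTypeLib.Coker
import Mathlib.Data.ZMod.Basic
import Mathlib.Algebra.Field.ZMod
import Mathlib.FieldTheory.Finiteness
import Mathlib.LinearAlgebra.FreeModule.Finite.Matrix
import Mathlib.SetTheory.Cardinal.Finite
import Mathlib.LinearAlgebra.Quotient.Card

/-!
# Torsion in cokernels of connected null matrices
-/

open Finset Matrix

namespace Groth.Agent.NumTypeLib

variable {n : ℕ} {A : Matrix (Fin n) (Fin n) ℤ} {m : Fin n → ℤ}

/-- The edges of the graph of `A`. -/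
def edges (A : Matrix (Fin n) (Fin n) ℤ) : Finset (Fin n × Fin n) :=
  univ.filter fun p => p.1 < p.2 ∧ 0 < A p.1 p.2

theorem card_torsionBy_le (h : IsNull A m) (hn : 0 < n) {B : Matrix (Fin n) (Fin n) ℤ} {w : Fin n → ℤ}
    (hw : ∀ i, w i ≠ 0) (hB : ∀ i j, A i j = w i * B i j) (ℓ : ℕ) (hℓ : ℓ.Prime)
    (hA : ∀ i j, i ≠ j → A i j ≠ 0 → ¬(ℓ : ℤ) ∣ A i j) (hm : ∀ i, ¬(ℓ : ℤ) ∣ m i) :
    Nat.card (Submodule.torsionBy ℤ ((Fin n → ℤ) ⧸ LinearMap.range B.mulVecLin) (ℓ : ℤ))
      ≤ ℓ ^ ((edges A).card + 1 - n) := by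
  classical
  haveI := Fact.mk hℓ
  let π : ℤ →+* ZMod ℓ := Int.castRingHom _
  let a : Matrix (Fin n) (Fin n) (ZMod ℓ) := A.map π
  let μ : Fin n → ZMod ℓ := fun i => π (m i)
  have hμ : ∀ i, μ i ≠ 0 := fun i hi => hm i ((ZMod.intCast_zmod_eq_zero_iff_dvd _ _).1 hi)
  have hmap : ∀ x, a *ᵥ (fun i => π (x i)) = fun i => π ((A *ᵥ x) i) := fun x =>
    funext fun i => (RingHom.map_mulVec π A x i).symm
  have haμ : a *ᵥ μ = 0 := by
    rw [hmap, h.mulVec_eq]
    exact funext fun i => map_zero π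
  have hAne : ∀ i j, i ≠ j → (a i j ≠ 0 ↔ 0 < A i j) := fun i j hij => by
    refine ⟨fun ha => lt_of_le_of_ne (h.nonneg i j hij) fun e => ha ?_, fun hp ha => ?_⟩
    · show π (A i j) = 0
      rw [← e, map_zero]
    · exact hA i j hij hp.ne' ((ZMod.intCast_zmod_eq_zero_iff_dvd _ _).1 ha)
  have hconn : ∀ I : Finset (Fin n), I.Nonempty → I ≠ univ →
      ∃ i ∈ I, ∃ j ∉ I, (i, j) ∈ edges A ∨ (j, i) ∈ edges A := fun I h1 h2 => by
    obtain ⟨i, hi, j, hj, hij⟩ := h.conn I h1 h2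
    have hne : i ≠ j := fun e => hj (e ▸ hi)
    have hpos : 0 < A i j := lt_of_le_of_ne (h.nonneg i j hne) (Ne.symm hij)
    refine ⟨i, hi, j, hj, ?_⟩
    simp only [edges, mem_filter, mem_univ, true_and]
    rcases lt_or_gt_of_ne hne with h' | h'
    · exact Or.inl ⟨h', hpos⟩
    · exact Or.inr ⟨h', by rw [h.symm.apply i j]; exact hpos⟩
  let K := LinearMap.ker a.mulVecLin
  let μK : K := ⟨μ, LinearMap.mem_ker.2 haμ⟩
  have hdim : Module.finrank (ZMod ℓ) K + n ≤ (edges A).card + 2 :=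
    finrank_ker_le a μ (edges A) hn (h.symm.map _) hμ haμ
      (fun e he => by
        simp only [edges, mem_filter, mem_univ, true_and] at he
        exact ⟨he.1, (hAne _ _ he.1.ne).2 he.2⟩)
      (fun i j hij ha => by
        simp only [edges, mem_filter, mem_univ, true_and]
        exact ⟨hij, (hAne _ _ hij.ne).1 ha⟩) hconn
  let L := Submodule.span (ZMod ℓ) {μK}
  have hμK : μK ≠ 0 := fun e => hμ ⟨0, hn⟩ (congrFun (congrArg Subtype.val e) _)
  have hq : Module.finrank (ZMod ℓ) (K ⧸ L) + 1 = Module.finrank (ZMod ℓ) K := by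
    rw [← Submodule.finrank_quotient_add_finrank L, finrank_span_singleton hμK]
  haveI : Finite (K ⧸ L) := Module.finite_of_finite (ZMod ℓ)
  -- the map
  let M := (Fin n → ℤ) ⧸ LinearMap.range B.mulVecLin
  have hex : ∀ z : Submodule.torsionBy ℤ M (ℓ : ℤ), ∃ (x y : Fin n → ℤ),
      Submodule.Quotient.mk x = (z : M) ∧ (ℓ : ℤ) • x = B *ᵥ y := by
    rintro ⟨z, hz⟩
    obtain ⟨x, rfl⟩ := Submodule.Quotient.mk_surjective _ z
    rw [Submodule.mem_torsionBy_iff, ← Submodule.Quotient.mk_smul, Submodule.Quotient.mk_eq_zero] at hz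
    obtain ⟨y, hy⟩ := hz
    exact ⟨x, y, rfl, hy.symm⟩
  choose X Y hX hY using hex
  have hAB : ∀ y i, (A *ᵥ y) i = w i * (B *ᵥ y) i := fun y i => by
    simp only [Matrix.mulVec, dotProduct, Finset.mul_sum, hB, mul_assoc]
  let f : Submodule.torsionBy ℤ M (ℓ : ℤ) → K ⧸ L := fun z => Submodule.Quotient.mk ⟨fun i => π (Y z i),
    LinearMap.mem_ker.2 (funext fun i => by
      show (a *ᵥ fun i => π (Y z i)) i = 0
      rw [hmap]
      show π ((A *ᵥ Y z) i) = 0
      rw [hAB, ← hY z, Pi.smul_apply, smul_eq_mul, map_mul, map_mul, show π (ℓ : ℤ) = 0 from by simp [π],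
        zero_mul, mul_zero])⟩
  have hf : Function.Injective f := by
    intro z z' e
    obtain ⟨t, ht⟩ := Submodule.mem_span_singleton.1 ((Submodule.Quotient.eq L).1 e)
    obtain ⟨t', rfl⟩ := ZMod.intCast_surjective t
    have hd : ∀ i, (ℓ : ℤ) ∣ Y z i - Y z' i - t' * m i := fun i => by
      rw [← ZMod.intCast_zmod_eq_zero_iff_dvd]
      have := congrFun (congrArg Subtype.val ht) i
      simp only [μK, μ, π, Submodule.coe_smul, Pi.smul_apply, smul_eq_mul, Submodule.coe_sub, Pi.sub_apply] at this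
      push_cast
      rw [sub_eq_zero]
      exact this.symm
    choose c hc using hd
    have hBm : B *ᵥ m = 0 := funext fun i => by
      have := hAB m i
      rw [h.mulVec_eq] at this
      exact (mul_eq_zero.1 this.symm).resolve_left (hw i)
    have key : X z - X z' = B *ᵥ c := by
      have h1 : (ℓ : ℤ) • (X z - X z') = (ℓ : ℤ) • (B *ᵥ c) := by
        rw [smul_sub, hY, hY, ← Matrix.mulVec_smul, ← Matrix.mulVec_sub,
          show Y z - Y z' = (ℓ : ℤ) • c + t' • m from funext fun i => by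
            have := hc i
            simp only [Pi.sub_apply, Pi.add_apply, Pi.smul_apply, smul_eq_mul]; linarith,
          Matrix.mulVec_add, Matrix.mulVec_smul, Matrix.mulVec_smul, hBm, smul_zero, add_zero]
      exact funext fun i => mul_left_cancel₀ (show (ℓ : ℤ) ≠ 0 from Nat.cast_ne_zero.2 hℓ.ne_zero) (congrFun h1 i)
    refine Subtype.ext ?_
    rw [← hX z, ← hX z', Submodule.Quotient.eq]
    exact ⟨c, key.symm⟩
  refine (Nat.card_le_card_of_injective f hf).trans ?_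
  rw [Module.natCard_eq_pow_finrank (K := ZMod ℓ) (V := K ⧸ L), Nat.card_zmod]
  exact Nat.pow_le_pow_right hℓ.pos (by omega)

end Groth.Agent.NumTypeLib
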